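import Cfsg.Agent.Lib.Lie.Chev.FieldMap
import Cfsg.Agent.Lib.Lie.Chev.CharDiag
import Cfsg.Agent.Lib.Lie.Chev.AutNorm
import Cfsg.Agent.Lib.Lie.Chev.CoxTorus.WMat
import Cfsg.Agent.Lib.Lie.Chev.Homocyclic.Exceptional
import Mathlib.GroupTheory.Index

/-!
# The diagonal automorphisms: characters, cubes and descent
-/

set_option autoImplicit false
set_option maxRecDepth 100000

namespace CfsgLib.Lie.CoxE6

open Cfsg.Lie CfsgLib.Lie.Chev CfsgLib.Lie.CoxTorus CfsgLib.Lie.Homocyclic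
open scoped MatrixGroups

section

variable {D : ChevalleyDatum} (C : Full D) {K : Type*} [Field K]

/-- the characters whose matrices lie in the group -/
noncomputable def dTor : Subgroup (Fin D.rank → Kˣ) := (D.diagonalSubgroup K).comap C.G.tor

theorem mem_dTor_iff {d : Fin D.rank → Kˣ} : d ∈ dTor C ↔ C.G.tor d ∈ D.group K :=
  ⟨fun h => C.G.diagonal_le_group h, C.tor_mem_H⟩

theorem index_dTor [Fintype K] (T : KerData D.rank) (hT : T.Ok (cmat D)) :
    (dTor C (K := K)).index = Nat.gcd T.d (Fintype.card K - 1) ^ T.k := by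
  classical
  have h1 := (dTor C (K := K)).card_mul_index
  have h2 : Nat.card ↥(dTor C (K := K)) = Nat.card ↥(D.diagonalSubgroup K) := by
    refine Nat.card_eq_of_bijective (fun d => ⟨C.G.tor d.1, d.2⟩) ⟨fun a b h => ?_, fun g => ?_⟩
    · exact Subtype.ext (tor_inj C (congrArg Subtype.val h))
    · obtain ⟨c, hc⟩ := C.G.exists_tor g.2
      exact ⟨⟨c, show C.G.tor c ∈ _ from hc ▸ g.2⟩, Subtype.ext hc.symm⟩
  rw [h2, Nat.card_fun, Nat.card_units, Nat.card_fin, Nat.card_eq_fintype_card (α := K),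
    ← C.G.card_diagonal (K := K) T hT, mul_comm (_ ^ _)] at h1
  exact Nat.eq_of_mul_eq_mul_left Nat.card_pos h1

variable {L : Type*} [Field L]

/-- a fixed element of the group over the extension comes from the group extended by characters -/
theorem fixed_adjoint (σ : L →+* L) (ι : K →+* L) (hι : ∀ x, σ x = x → ∃ y, ι y = x)
    {g : GL D.Idx L} (hg : g ∈ D.group L) (hfix : fmap D σ g = g) :
    ∃ g₀ ∈ D.group K, ∃ d : Fin D.rank → Kˣ, fmap D ι (g₀ * C.G.tor d) = g := by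
  classical
  obtain ⟨b, hb, n, hn, π, hπ, u, hu, rfl⟩ := C.refined_exists hg
  obtain ⟨h, hh, l, rfl⟩ := C.G.monomial_decomp hn
  obtain ⟨v, hv, d, hd, rfl⟩ := C.G.mem_borel_iff.1 hb
  set w := C.G.nw (K := L) l
  have hB : v * (d * h) ∈ D.borelSubgroup L :=
    mul_mem (Subgroup.mem_sup_left hv) (Subgroup.mem_sup_right (mul_mem hd hh))
  have hw : C.G.NPerm w π := by
    have h1 := Good.NPerm.mul C.G (C.G.nPerm_H (inv_mem hh)) hπ
    rw [one_mul, ← mul_assoc, inv_mul_cancel, one_mul] at h1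
    exact h1
  have e1 : v * d * (h * w) * u = v * (d * h) * w * u := by group
  rw [e1] at hfix ⊢
  have hσB : fmap D σ v * fmap D σ (d * h) ∈ D.borelSubgroup L :=
    mul_mem (Subgroup.mem_sup_left (C.G.fmap_mem_U σ hv))
      (Subgroup.mem_sup_right (C.G.fmap_mem_H σ (mul_mem hd hh)))
  rw [map_mul, map_mul, map_mul, C.G.fmap_nw] at hfix
  obtain ⟨e2, e3⟩ := C.refined_unique hσB hB hw (C.G.fmap_mem_Uinv σ π hu) hu hfix
  have e4 := C.G.eq_one_of_U_H (u := v⁻¹ * fmap D σ v)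
    (h := fmap D σ (d * h) * (d * h)⁻¹)
    (mul_mem (inv_mem hv) (C.G.fmap_mem_U σ hv))
    (mul_mem (C.G.fmap_mem_H σ (mul_mem hd hh)) (inv_mem (mul_mem hd hh))) (by
      rw [mul_assoc, ← mul_assoc (fmap D σ v), e2]; group)
  have fU : ∀ x ∈ D.posUnipotent L, fmap D σ x = x → x ∈ (D.group K).map (fmap D ι) := by
    intro x hx hσx
    rw [C.G.posUnipotent_eq] at hx
    obtain ⟨t, rfl⟩ := C.exists_uprod D.nroots 0 (Nat.zero_add _) x hx
    rw [C.fmap_uprod] at hσx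
    have ht := C.uprod_inj D.nroots 0 (Nat.zero_add _) _ _ hσx
    choose y hy using fun r : {r : Fin D.nroots // D.IsPosRoot r.val} =>
      hι (t r.1) (ht r.1 (Nat.zero_le _) r.2)
    refine ⟨C.uprod 0 fun r => if hr : D.IsPosRoot r.val then y ⟨r, hr⟩ else 0, ?_, ?_⟩
    · refine list_prod_mem fun x hx => ?_
      obtain ⟨r, -, rfl⟩ := List.mem_map.1 hx
      exact C.G.xu_mem r _
    · rw [C.fmap_uprod]
      exact C.uprod_congr fun r _ hr => by rw [dif_pos hr, hy]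
  obtain ⟨v₀, hv₀, ev⟩ := fU v hv (inv_mul_eq_one.1 e4.1).symm
  obtain ⟨u₀, hu₀, eu⟩ := fU u (C.G.Uinv_le π hu) e3
  obtain ⟨c, hc⟩ := C.G.exists_tor (mul_mem hd hh)
  have hfx := mul_inv_eq_one.1 e4.2
  rw [hc, C.G.fmap_tor] at hfx
  have hcf := tor_inj C hfx
  choose y hy using fun i => hι (c i : L) (congrArg Units.val (congrFun hcf i))
  have hy0 : ∀ i, y i ≠ 0 := fun i h0 => (c i).ne_zero (by rw [← hy i, h0, map_zero])
  set d₀ : Fin D.rank → Kˣ := fun i => Units.mk0 (y i) (hy0 i)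
  have ed : fmap D ι (C.G.tor d₀) = d * h := by
    rw [C.G.fmap_tor, hc]
    congr 1
    funext i
    exact Units.ext (hy i)
  have hw₀ : C.G.nw (K := K) l ∈ D.group K := list_prod_mem fun x hx => by
    obtain ⟨i, -, rfl⟩ := List.mem_map.1 hx
    exact mul_mem (mul_mem (C.G.xu_mem _ _) (C.G.xu_mem _ _)) (C.G.xu_mem _ _)
  refine ⟨v₀ * (C.G.tor d₀ * (C.G.nw l * u₀) * (C.G.tor d₀)⁻¹),
    mul_mem hv₀ (C.G.tor_conj_mem d₀ (mul_mem hw₀ hu₀)), d₀, ?_⟩
  rw [show v₀ * (C.G.tor d₀ * (C.G.nw l * u₀) * (C.G.tor d₀)⁻¹) * C.G.tor d₀ =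
    v₀ * C.G.tor d₀ * C.G.nw l * u₀ by group]
  rw [map_mul, map_mul, map_mul, C.G.fmap_nw, ev, eu, ed]

end

/-- three times the inverse of the Cartan matrix -/
def invE6 (l i : Fin chevE6.rank) : ℤ :=
  ([[4, 3, 5, 6, 4, 2], [3, 6, 6, 9, 6, 3], [5, 6, 10, 12, 8, 4], [6, 9, 12, 18, 12, 6],
    [4, 6, 8, 12, 10, 5], [2, 3, 4, 6, 5, 4]].getD l.val []).getD i.val 0

theorem invE6_spec : ∀ l k : Fin chevE6.rank,
    ∑ i, invE6 l i * cmat chevE6 i k = if l = k then 3 else 0 := by decide +kernel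

variable {K : Type*} [Field K]

theorem cube_mem (d : Fin chevE6.rank → Kˣ) : cE6.G.tor (d ^ 3) ∈ chevE6.diagonalSubgroup K := by
  rw [cE6.G.diagonal_eq_range]
  refine ⟨fun i => ∏ l, d l ^ invE6 l i, ?_⟩
  show cE6.G.tor (fun k => ∏ i, (∏ l, d l ^ invE6 l i) ^ cart chevE6 i (cE6.G.simp' k)) = _
  congr 1
  funext k
  simp only [← cE6.G.cmat_eq, ← Finset.prod_zpow, ← zpow_mul]
  rw [Finset.prod_comm, Finset.prod_eq_single k]
  · rw [← prod_zpow_sum, invE6_spec, if_pos rfl]; rfl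
  · intro l _ hl
    rw [← prod_zpow_sum, invE6_spec, if_neg hl, zpow_zero]
  · simp

/-- characters of small order have their matrices in the group over a larger field -/
theorem mem_of_pow_eq_one [Fintype K] {n : ℕ} (hn : 0 < n) (h : ¬ 3 ∣ n ∨ 3 * n ∣ Nat.card Kˣ)
    {u : Fin chevE6.rank → Kˣ} (hu : u ^ n = 1) : cE6.G.tor u ∈ chevE6.diagonalSubgroup K := by
  have key : ∀ x : Kˣ, x ^ n = 1 → ∃ y : Kˣ, y ^ 3 = x := by
    intro x hx
    rcases h with h | h
    · have hco : IsCoprime (3 : ℤ) (n : ℤ) :=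
        Int.isCoprime_iff_nat_coprime.2 ((Nat.prime_three.coprime_iff_not_dvd).2 h)
      obtain ⟨a, b, hab⟩ := hco
      refine ⟨x ^ a, ?_⟩
      rw [← zpow_natCast (x ^ a), ← zpow_mul]
      conv_rhs => rw [← zpow_one x, ← hab, zpow_add, mul_comm b, zpow_mul x n b, zpow_natCast, hx,
        one_zpow, mul_one]
      norm_num
    · obtain ⟨γ, hγ⟩ := IsCyclic.exists_generator (α := Kˣ)
      obtain ⟨k, rfl⟩ := Subgroup.mem_zpowers_iff.1 (hγ x)
      rw [← zpow_natCast, ← zpow_mul, ← orderOf_dvd_iff_zpow_eq_one,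
        orderOf_eq_card_of_forall_mem_zpowers hγ] at hx
      have h3 : ((3 * n : ℕ) : ℤ) ∣ k * n := (Int.natCast_dvd_natCast.2 h).trans hx
      rw [Nat.cast_mul] at h3
      obtain ⟨a, rfl⟩ := (mul_dvd_mul_iff_right (Int.natCast_ne_zero.2 hn.ne')).1 h3
      exact ⟨γ ^ a, by rw [← zpow_natCast, ← zpow_mul, mul_comm]⟩
  choose y hy using fun i => key (u i) (congrFun hu i)
  rw [show u = y ^ 3 from funext fun i => (hy i).symm]
  exact cube_mem y

end CfsgLib.Lie.CoxE6
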