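import Cfsg.Agent.Lib.Lie.Chev.Homocyclic.Exceptional
import Cfsg.Agent.Lib.Lie.Chev.CoxTorus.Data

/-!
# The root lattice of type E₆ does not split under a Weyl group element

An integer idempotent with orthogonal image and kernel is trivial, as the diagram is connected and
the lattice is even and positive.
-/

set_option autoImplicit false
set_option maxRecDepth 100000

namespace CfsgLib.Lie.CoxE6

open Cfsg.Lie CfsgLib.Lie.Chev CfsgLib.Lie.CoxTorus CfsgLib.Lie.Homocyclic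
open Matrix

local notation "V" => (Fin chevE6.rank → ℤ)
local notation "Mt" => Matrix (Fin chevE6.rank) (Fin chevE6.rank) ℤ
local notation "𝐁" => bil cE6

/-- triangular matrix diagonalising the form -/
def uE6 : Matrix (Fin chevE6.rank) (Fin chevE6.rank) ℤ :=
  Matrix.of fun i j => ([[2, 0, -1, 0, 0, 0], [0, 2, 0, -1, 0, 0], [0, 0, 3, -2, 0, 0],
    [0, 0, 0, 5, -6, 0], [0, 0, 0, 0, 4, -5], [0, 0, 0, 0, 0, 3]].getD i.val []).getD j.val 0

/-- the weights of the squares -/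
def dE6 : Fin chevE6.rank → ℕ := fun i => [30, 30, 10, 2, 3, 5].getD i.val 0

theorem gram_eq : uE6ᵀ * Matrix.diagonal (fun k => (dE6 k : ℤ)) * uE6 = (60 : ℤ) • cM cE6 := by
  decide +kernel

theorem uE6_tri : ∀ i j, j < i → uE6 i j = 0 := tri_of_triB (by decide +kernel)

theorem bound_const : ((∏ k, uE6 k k) ^ 2 * ∏ k, (dE6 k : ℤ)) = 139968000000 ∧
    (∀ k, 0 < dE6 k) ∧ chevE6.rank = 6 := by decide +kernel

theorem qlen_eq (x : V) : qlen uE6 dE6 x = 60 * 𝐁 x x := by
  have h : qlen uE6 dE6 x = x ⬝ᵥ ((uE6ᵀ * Matrix.diagonal (fun k => (dE6 k : ℤ)) * uE6) *ᵥ x) := by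
    rw [← mulVec_mulVec, ← mulVec_mulVec, dotProduct_mulVec, vecMul_transpose, qlen]
    refine Finset.sum_congr rfl fun k _ => ?_
    rw [mulVec_diagonal]
    show _ = (∑ j, uE6 k j * x j) * ((dE6 k : ℤ) * ∑ j, uE6 k j * x j)
    ring
  rw [h, gram_eq, smul_mulVec, dotProduct_smul, smul_eq_mul, bil]

theorem norm_nonneg (x : V) : 0 ≤ 𝐁 x x := by
  have h : 0 ≤ qlen uE6 dE6 x :=
    Finset.sum_nonneg fun k _ => mul_nonneg (Nat.cast_nonneg _) (sq_nonneg _)
  rw [qlen_eq] at h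
  omega

theorem uE6_det : uE6.det ≠ 0 := by
  rw [Matrix.det_of_isUpperTriangular fun i j h => uE6_tri i j h]
  intro h
  have := bound_const.1
  rw [h] at this
  norm_num at this

theorem eq_zero_of_norm {x : V} (h : 𝐁 x x = 0) : x = 0 := by
  have h1 : qlen uE6 dE6 x = 0 := by rw [qlen_eq, h, mul_zero]
  rw [qlen, Finset.sum_eq_zero_iff_of_nonneg fun k _ => mul_nonneg (Nat.cast_nonneg _) (sq_nonneg _)] at h1
  have h2 : uE6 *ᵥ x = 0 := funext fun k => by
    rcases mul_eq_zero.1 (h1 k (Finset.mem_univ k)) with h3 | h3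
    · exact absurd (Int.natCast_eq_zero.1 h3) (bound_const.2.1 k).ne'
    · exact pow_eq_zero_iff (two_ne_zero) |>.1 h3
  by_contra hne
  exact uE6_det (Matrix.exists_mulVec_eq_zero_iff.1 ⟨x, hne, h2⟩)

theorem norm_even (x : V) : (2 : ℤ) ∣ 𝐁 x x := by
  have h := bil_mod cE6 2 x x
  rw [evenE6] at h
  exact (ZMod.intCast_zmod_eq_zero_iff_dvd _ _).1 h

theorem bsymm (x y : V) : 𝐁 x y = 𝐁 y x := bil_comm symE6 x y

theorem connectedE6 : ∀ f : Fin chevE6.rank → Bool,
    (∀ i j, 𝐁 (Pi.single i 1) (Pi.single j 1) ≠ 0 → f i = f j) → ∀ i j, f i = f j := by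
  decide +kernel

theorem normSimple : ∀ i : Fin chevE6.rank, 𝐁 (Pi.single i 1) (Pi.single i 1) = 2 := by decide +kernel

/-- an orthogonal projection of the lattice is trivial -/
theorem split_trivial (P : Mt) (h : ∀ x y : V, 𝐁 (x ᵥ* P) (y ᵥ* (1 - P)) = 0) : P = 0 ∨ P = 1 := by
  classical
  have hd : ∀ x : V, x = x ᵥ* P + x ᵥ* (1 - P) := fun x => by
    rw [← vecMul_add, add_sub_cancel, vecMul_one]
  have key : ∀ i : Fin chevE6.rank, (Pi.single i 1 : V) ᵥ* P = 0 ∨ (Pi.single i 1 : V) ᵥ* (1 - P) = 0 := by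
    intro i
    set a : V := Pi.single i 1
    have e : (2 : ℤ) = 𝐁 (a ᵥ* P) (a ᵥ* P) + 𝐁 (a ᵥ* (1 - P)) (a ᵥ* (1 - P)) := by
      rw [← normSimple i]
      conv_lhs => rw [show (Pi.single i 1 : V) = a ᵥ* P + a ᵥ* (1 - P) from hd a]
      rw [bil_add_left, bil_add_right, bil_add_right, h a a, bsymm (a ᵥ* (1 - P)) (a ᵥ* P), h a a]
      ring
    obtain ⟨c, hc⟩ := norm_even (a ᵥ* P)
    obtain ⟨c', hc'⟩ := norm_even (a ᵥ* (1 - P))
    have h1 := norm_nonneg (a ᵥ* P)
    have h2 := norm_nonneg (a ᵥ* (1 - P))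
    by_cases h0 : c = 0
    · exact Or.inl (eq_zero_of_norm (by rw [hc, h0, mul_zero]))
    · exact Or.inr (eq_zero_of_norm (by omega))
  let f : Fin chevE6.rank → Bool := fun i => decide ((Pi.single i 1 : V) ᵥ* P = 0)
  have hf : ∀ i j, 𝐁 (Pi.single i 1) (Pi.single j 1) ≠ 0 → f i = f j := by
    intro i j hij
    simp only [f, decide_eq_decide]
    have aux : ∀ a b, 𝐁 (Pi.single a 1) (Pi.single b 1) ≠ 0 →
        (Pi.single a 1 : V) ᵥ* P = 0 → (Pi.single b 1 : V) ᵥ* P = 0 := by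
      intro a b hab ha
      refine (key b).resolve_right fun hb => hab ?_
      rw [hd (Pi.single a 1), hd (Pi.single b 1), ha, hb, zero_add, add_zero, bsymm]
      exact h _ _
    exact ⟨aux i j hij, aux j i (by rwa [bsymm] at hij)⟩
  have hall := connectedE6 f hf
  by_cases h0 : ∀ i, (Pi.single i 1 : V) ᵥ* P = 0
  · left
    ext i j
    have := congrFun (h0 i) j
    simpa using this
  · right
    obtain ⟨i, hi⟩ := not_forall.1 h0
    symm
    refine sub_eq_zero.1 ?_
    ext a b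
    have ha : (Pi.single a 1 : V) ᵥ* P ≠ 0 := by
      have := hall i a
      simp only [f, decide_eq_decide] at this
      exact fun e => hi (this.2 e)
    have := congrFun ((key a).resolve_left ha) b
    simpa using this

end CfsgLib.Lie.CoxE6
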