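import Mathlib.LinearAlgebra.Matrix.NonsingularInverse
import Mathlib.Analysis.Complex.Polynomial.Basic
import Cfsg.Agent.Lib.Lie.Chev.CoxTorus.Lin

/-!
# Integer matrices whose characteristic polynomial is a product of two irreducible factors

The matrices commuting with such a matrix are polynomials in it, over the rationals.
-/

set_option autoImplicit false

namespace CfsgLib.Lie.CoxE6

open Matrix Polynomial CfsgLib.Lie.CoxTorus

variable {l : ℕ}

theorem red_injective : Function.Injective (red (l := l) ℚ) := fun A B h => by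
  ext i j
  simpa [red_apply] using congrFun (congrFun h i) j

theorem red_vecMul {R : Type*} [CommRing R] (z : Fin l → ℤ) (M : Matrix (Fin l) (Fin l) ℤ) :
    (fun k => (((z ᵥ* M) k : ℤ) : R)) = (fun k => (z k : R)) ᵥ* red R M := by
  funext k
  simp [vecMul, dotProduct, red_apply]

/-- a non-constant factor of the characteristic polynomial gives a singular matrix -/
theorem det_aeval_eq_zero (N : Matrix (Fin l) (Fin l) ℤ) (f : ℤ[X]) (hf : f.Monic)
    (h0 : 0 < f.natDegree) (hd : f ∣ N.charpoly) : (aeval N f).det = 0 := by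
  set fC := f.map (Int.castRingHom ℂ)
  have hdeg : fC.degree ≠ 0 := by
    rw [degree_eq_natDegree (hf.map _).ne_zero, hf.natDegree_map]
    exact_mod_cast h0.ne'
  obtain ⟨x, hx⟩ := IsAlgClosed.exists_root fC hdeg
  have hroot : (red ℂ N).charpoly.IsRoot x := by
    rw [show red ℂ N = N.map (Int.castRingHom ℂ) from rfl, Matrix.charpoly_map]
    exact hx.dvd (Polynomial.map_dvd _ hd)
  rw [IsRoot, eval_charpoly, ← Matrix.exists_mulVec_eq_zero_iff] at hroot
  obtain ⟨v, hv0, hv⟩ := hroot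
  rw [sub_mulVec, sub_eq_zero, Matrix.scalar_apply, ← Matrix.smul_one_eq_diagonal, smul_mulVec,
    one_mulVec] at hv
  have h1 := aeval_mulVec_eigen hv.symm fC
  rw [hx, zero_smul] at h1
  have h2 : (red ℂ (aeval N f)).det = 0 :=
    Matrix.exists_mulVec_eq_zero_iff.1 ⟨v, hv0, by rw [red_aeval]; exact h1⟩
  have h3 : ((aeval N f).det : ℂ) = 0 := by
    rw [← h2]
    exact (Int.castRingHom ℂ).map_det _
  exact_mod_cast h3

section field

variable {k : Type*} [Field k] {N : Matrix (Fin l) (Fin l) k} {a : Fin l → k}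

theorem orbit_det_of_two {f g : k[X]} (hf : Irreducible f) (hg : Irreducible g) (hfg : IsCoprime f g)
    (hN : N.charpoly = f * g) (h1 : a ᵥ* aeval N f ≠ 0) (h2 : a ᵥ* aeval N g ≠ 0) :
    (orbitMat N a).det ≠ 0 := by
  intro hdet
  obtain ⟨c, hc0, hc⟩ := Matrix.exists_vecMul_eq_zero_iff.2 hdet
  set p : k[X] := ∑ i : Fin l, C (c i) * X ^ (i : ℕ) with hp
  have hdeg : p.degree < l := by
    refine lt_of_le_of_lt (degree_sum_le _ _) ((Finset.sup_lt_iff (WithBot.bot_lt_coe l)).2 ?_)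
    exact fun i _ => lt_of_le_of_lt (degree_C_mul_X_pow_le _ _) (WithBot.coe_lt_coe.2 i.isLt)
  have hp0 : p ≠ 0 := by
    obtain ⟨i, hi⟩ := Function.ne_iff.1 hc0
    intro h0
    have := congrArg (fun f : k[X] => f.coeff i) h0
    simp [hp, Fin.val_inj] at this
    exact hi this
  have hap : a ᵥ* aeval N p = 0 := by
    rw [← hc]
    funext m
    simp only [hp, map_sum, map_mul, aeval_C, aeval_X_pow, ← Algebra.smul_def, vecMul_sum,
      vecMul_smul, Finset.sum_apply, Pi.smul_apply, smul_eq_mul]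
    rfl
  have hfgN : aeval N f * aeval N g = 0 := by rw [← map_mul, ← hN, aeval_self_charpoly]
  have key : ∀ F G : k[X], aeval N F * aeval N G = 0 → IsCoprime p G → a ᵥ* aeval N F = 0 := by
    rintro F G hFG ⟨s, t, hst⟩
    have e : F = p * (F * s) + t * (F * G) := by linear_combination (-F) * hst
    rw [e]
    simp only [map_add, map_mul]
    rw [hFG, mul_zero, add_zero, ← vecMul_vecMul, hap, zero_vecMul]
  rcases em (g ∣ p) with hgp | hgp
  · rcases em (f ∣ p) with hfp | hfp
    · have hd := degree_le_of_dvd (hfg.mul_dvd hfp hgp) hp0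
      rw [← hN, Matrix.charpoly_degree_eq_dim, Fintype.card_fin] at hd
      exact absurd (lt_of_le_of_lt hd hdeg) (lt_irrefl _)
    · exact h2 (key g f (by rw [← map_mul, mul_comm, map_mul, hfgN])
        (hf.coprime_iff_not_dvd.2 hfp).symm)
  · exact h1 (key f g hfgN (hg.coprime_iff_not_dvd.2 hgp).symm)

variable (ha : (orbitMat N a).det ≠ 0)
include ha

theorem eq_zero_of_commute {Y : Matrix (Fin l) (Fin l) k} (hY : Commute N Y) (h : a ᵥ* Y = 0) :
    Y = 0 := by
  have h1 : orbitMat N a * Y = 0 := by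
    ext i m
    have : (a ᵥ* N ^ (i : ℕ)) ᵥ* Y = 0 := by
      rw [vecMul_vecMul, (hY.pow_left i).eq, ← vecMul_vecMul, h, zero_vecMul]
    exact congrFun this m
  have h2 : (orbitMat N a).det • Y = 0 := by
    rw [← one_mul Y, ← smul_mul_assoc, ← adjugate_mul, mul_assoc, h1, mul_zero]
  exact (smul_eq_zero.1 h2).resolve_left ha

theorem exists_poly_vec (z : Fin l → k) : ∃ p : k[X], z = a ᵥ* aeval N p := by
  refine ⟨∑ i : Fin l, C ((z ᵥ* (orbitMat N a)⁻¹) i) * X ^ (i : ℕ), ?_⟩
  conv_lhs => rw [← vecMul_one z, ← Matrix.nonsing_inv_mul (orbitMat N a) (Ne.isUnit ha),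
    ← vecMul_vecMul]
  funext m
  simp only [map_sum, map_mul, aeval_C, aeval_X_pow, ← Algebra.smul_def, vecMul_sum,
    vecMul_smul, Finset.sum_apply, Pi.smul_apply, smul_eq_mul]
  rfl

theorem exists_poly {Y : Matrix (Fin l) (Fin l) k} (hY : Commute N Y) :
    ∃ p : k[X], Y = aeval N p := by
  obtain ⟨p, hp⟩ := exists_poly_vec ha (a ᵥ* Y)
  refine ⟨p, sub_eq_zero.1 (eq_zero_of_commute ha ?_ (by rw [vecMul_sub, hp, sub_self]))⟩
  refine hY.sub_right ?_
  have := (Commute.all (X : k[X]) p).map (aeval N)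
  rwa [aeval_X] at this

theorem charpoly_dvd {p : k[X]} (h : a ᵥ* aeval N p = 0) : N.charpoly ∣ p := by
  rw [← Polynomial.modByMonic_eq_zero_iff_dvd N.charpoly_monic]
  set p' := p %ₘ N.charpoly
  have h1 : a ᵥ* aeval N p' = 0 := by
    rw [← h]
    conv_rhs => rw [← modByMonic_add_div p N.charpoly, map_add, map_mul, aeval_self_charpoly,
      zero_mul, add_zero]
  have hdeg : p'.degree < l := by
    refine (degree_modByMonic_lt p N.charpoly_monic).trans_eq ?_
    rw [Matrix.charpoly_degree_eq_dim, Fintype.card_fin]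
  by_contra hp0
  have hsum : a ᵥ* aeval N p' = (fun i : Fin l => p'.coeff i) ᵥ* orbitMat N a := by
    rw [aeval_eq_sum_range' (n := l) ((natDegree_lt_iff_degree_lt hp0).2 hdeg)]
    funext m
    rw [← Fin.sum_univ_eq_sum_range (fun i => p'.coeff i • N ^ i) l]
    simp only [vecMul_sum, vecMul_smul, Finset.sum_apply, Pi.smul_apply, smul_eq_mul]
    rfl
  have hc : (fun i : Fin l => p'.coeff i) = 0 := by
    by_contra hne
    exact ha (Matrix.exists_vecMul_eq_zero_iff.1 ⟨_, hne, hsum.symm.trans h1⟩)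
  refine hp0 (Polynomial.ext fun i => ?_)
  rcases Nat.lt_or_ge i l with hi | hi
  · simpa using congrFun hc ⟨i, hi⟩
  · rw [coeff_zero]
    exact coeff_eq_zero_of_degree_lt (hdeg.trans_le (WithBot.coe_le_coe.2 hi))

theorem kill_or {f g : k[X]} (hg : Irreducible g) (hN : N.charpoly = f * g)
    {Y Z : Matrix (Fin l) (Fin l) k} (hY : Commute N Y) (hZ : Commute N Z)
    (h : aeval N f * (Y * Z) = 0) : aeval N f * Y = 0 ∨ aeval N f * Z = 0 := by
  obtain ⟨s, rfl⟩ := exists_poly ha hY
  obtain ⟨t, rfl⟩ := exists_poly ha hZ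
  have hf0 : f ≠ 0 := fun h0 => N.charpoly_monic.ne_zero (by rw [hN, h0, zero_mul])
  have h1 : N.charpoly ∣ f * (s * t) :=
    charpoly_dvd ha (by rw [map_mul, map_mul, h, vecMul_zero])
  rw [hN] at h1
  have h2 : g ∣ s * t := (mul_dvd_mul_iff_left hf0).1 h1
  rcases hg.prime.dvd_or_dvd h2 with ⟨c, hc⟩ | ⟨c, hc⟩
  · exact Or.inl (by rw [← map_mul, hc, ← mul_assoc, ← hN, map_mul, aeval_self_charpoly, zero_mul])
  · exact Or.inr (by rw [← map_mul, hc, ← mul_assoc, ← hN, map_mul, aeval_self_charpoly, zero_mul])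

/-- the kernel of an irreducible factor is generated by any of its non-zero vectors -/
theorem exists_poly_kernel {f g : k[X]} (hg : Irreducible g) (hgm : g.Monic)
    (hN : N.charpoly = f * g) {z w : Fin l → k} (hz : z ᵥ* aeval N g = 0)
    (hw : w ᵥ* aeval N g = 0) (hw0 : w ≠ 0) :
    ∃ p : k[X], z = w ᵥ* aeval N p ∧ p.degree < g.degree := by
  obtain ⟨s, hs⟩ := exists_poly_vec ha z
  obtain ⟨t, ht⟩ := exists_poly_vec ha w
  have aux : ∀ (v : Fin l → k) (u : k[X]), v = a ᵥ* aeval N u → v ᵥ* aeval N g = 0 →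
      ∃ u', u = f * u' := by
    intro v u hu hv
    have h1 : N.charpoly ∣ u * g := charpoly_dvd ha (by rw [map_mul, ← vecMul_vecMul, ← hu, hv])
    rw [hN] at h1
    exact (mul_dvd_mul_iff_right hg.ne_zero).1 h1
  obtain ⟨s', rfl⟩ := aux z s hs hz
  obtain ⟨t', rfl⟩ := aux w t ht hw
  have hnd : ¬ g ∣ t' := by
    rintro ⟨c, rfl⟩
    exact hw0 (by rw [ht, ← mul_assoc, ← hN, map_mul, aeval_self_charpoly, zero_mul, vecMul_zero])
  obtain ⟨c, d, hcd⟩ := hg.coprime_iff_not_dvd.2 hnd
  refine ⟨(d * s') %ₘ g, ?_, degree_modByMonic_lt _ hgm⟩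
  have e : f * s' = f * t' * ((d * s') %ₘ g) + (f * g) * (c * s' + t' * ((d * s') /ₘ g)) := by
    linear_combination (-f * s') * hcd - f * t' * modByMonic_add_div (d * s') g
  rw [hs, ht, vecMul_vecMul, ← map_mul, e, ← hN, map_add, map_mul (aeval N) N.charpoly, aeval_self_charpoly,
    zero_mul, add_zero]

end field

end CfsgLib.Lie.CoxE6
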