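import Cfsg.Agent.Lib.Lie.Chev.CoxE6Torus.Form
import Cfsg.Agent.Lib.Lie.Chev.CoxE6Torus.Poly

/-!
# The elements of the Weyl group of type E₆ with an eigenvalue of order twelve modulo a prime

Their characteristic polynomial is `Φ₁₂Φ₃`, and twice a projection on a factor is not even.
-/

set_option autoImplicit false
set_option maxRecDepth 100000

namespace CfsgLib.Lie.CoxE6

open Cfsg.Lie CfsgLib.Lie.Chev CfsgLib.Lie.CoxTorus CfsgLib.Lie.Homocyclic
open Matrix Polynomial

local notation "V" => (Fin chevE6.rank → ℤ)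
local notation "Mt" => Matrix (Fin chevE6.rank) (Fin chevE6.rank) ℤ
local notation "𝐁" => bil cE6

noncomputable def f12 : ℤ[X] := X ^ 4 - X ^ 2 + 1

noncomputable def f3 : ℤ[X] := X ^ 2 + X + 1

/-- twice the identity on one factor -/
noncomputable def uP : ℤ[X] := 2 + X * f12

theorem f12_eq : cyclotomic 12 ℤ = f12 := by
  have h := cyclotomic_expand_eq_cyclotomic (p := 2) (n := 6) Nat.prime_two (by norm_num) ℤ
  rw [cyclotomic_six] at h
  simp only [map_add, map_sub, map_pow, expand_X, map_one] at h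
  rw [show (12 : ℕ) = 6 * 2 from rfl, ← h, f12]
  ring

theorem f3_eq : cyclotomic 3 ℤ = f3 := by rw [cyclotomic_three, f3]

theorem f12_monic : f12.Monic := f12_eq ▸ cyclotomic.monic _ _

theorem f3_monic : f3.Monic := f3_eq ▸ cyclotomic.monic _ _

theorem f12_deg : f12.natDegree = 4 := by rw [← f12_eq, natDegree_cyclotomic]; rfl

theorem f3_deg : f3.natDegree = 2 := by rw [← f3_eq, natDegree_cyclotomic]; rfl

theorem uP_eq : uP = f3 * (X ^ 3 - X ^ 2 - X + 2) := by rw [uP, f12, f3]; ring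

theorem rank_eq : chevE6.rank = 6 := bound_const.2.2

theorem bil_sub_left (u u' v : V) : 𝐁 (u - u') v = 𝐁 u v - 𝐁 u' v := by
  rw [bil, bil, bil, sub_dotProduct]

theorem bil_sub_right (u v v' : V) : 𝐁 u (v - v') = 𝐁 u v - 𝐁 u v' := by
  rw [bsymm, bil_sub_left, bsymm v u, bsymm v' u]

theorem bil_zero_left (v : V) : 𝐁 0 v = 0 := zero_dotProduct _

theorem vecMul_aeval_mul (N : Mt) (v : V) (p p' : ℤ[X]) :
    v ᵥ* aeval N (p * p') = (v ᵥ* aeval N p) ᵥ* aeval N p' := by rw [map_mul, vecMul_vecMul]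

theorem vec_quad (N : Mt) (b c : ℤ) (v : V) :
    v ᵥ* aeval N (X ^ 2 + C b * X + C c) = (v ᵥ* N) ᵥ* N + b • (v ᵥ* N) + c • v := by
  simp only [map_add, map_mul, map_pow, aeval_X, aeval_C, vecMul_add, ← Algebra.smul_def,
    Algebra.algebraMap_eq_smul_one, vecMul_smul, vecMul_one, pow_two, vecMul_vecMul, smul_mul_assoc,
    one_mul]

variable {π : Equiv.Perm (Fin chevE6.nroots)} (hπ : π ∈ cE6.G.Wg)

local notation "N" => wm cE6 π

include hπ

theorem binv (u v : V) : 𝐁 (u ᵥ* N) (v ᵥ* N) = 𝐁 u v :=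
  bil_invariant cE6 (fun _ h => form_invariant cE6 formE6 h) hπ u v

theorem wm_pow_natCard : N ^ Nat.card cE6.G.Wg = 1 := by
  classical
  rw [Nat.card_eq_fintype_card]
  exact wm_pow_card cE6 hπ

/-- the kernel and the image of a palindromic quadratic polynomial are orthogonal -/
theorem orth_kernel {b c : ℤ} (hcb : c * b = b) (hcc : c * c = 1) {y : V}
    (hy : y ᵥ* aeval N (X ^ 2 + C b * X + C c) = 0) (x : V) :
    𝐁 (x ᵥ* aeval N (X ^ 2 + C b * X + C c)) y = 0 := by
  rw [vec_quad] at hy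
  rw [vec_quad, bil_add_left, bil_add_left, bil_smul_left, bil_smul_left]
  have e0 : 𝐁 x y = 𝐁 ((x ᵥ* N) ᵥ* N) ((y ᵥ* N) ᵥ* N) := by rw [binv hπ, binv hπ]
  have e1 : 𝐁 (x ᵥ* N) y = 𝐁 ((x ᵥ* N) ᵥ* N) (y ᵥ* N) := (binv hπ _ _).symm
  have e2 := congrArg (fun w => 𝐁 ((x ᵥ* N) ᵥ* N) w) hy
  simp only [bil_add_right, bil_smul_right] at e2
  rw [bsymm _ 0, bil_zero_left] at e2
  rw [e0, e1]
  set A := 𝐁 ((x ᵥ* N) ᵥ* N) y
  set B1 := 𝐁 ((x ᵥ* N) ᵥ* N) (y ᵥ* N)
  linear_combination c * e2 - A * hcc - B1 * hcb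

theorem orth_f3 {y : V} (hy : y ᵥ* aeval N f3 = 0) (x : V) : 𝐁 (x ᵥ* aeval N f3) y = 0 := by
  have e : f3 = X ^ 2 + C 1 * X + C 1 := by rw [f3, map_one, one_mul]
  rw [e] at hy ⊢
  exact orth_kernel hπ (one_mul 1) (one_mul 1) hy x

/-- a splitting of the lattice by a quadratic factor is absurd -/
theorem no_bezout {b c : ℤ} (hcb : c * b = b) (hcc : c * c = 1) {a a' : ℤ[X]}
    (hab : a * f12 + a' * (X ^ 2 + C b * X + C c) = 1)
    (hc : (wm cE6 π).charpoly = f12 * (X ^ 2 + C b * X + C c)) : False := by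
  set g : ℤ[X] := X ^ 2 + C b * X + C c with hg
  have hgdeg : g.natDegree = 2 := by rw [hg]; compute_degree!
  have hgm : g.Monic := by rw [hg]; monicity!
  have hzero : aeval N (a * f12 * g) = 0 := by
    rw [mul_assoc, ← hc, map_mul, aeval_self_charpoly, mul_zero]
  have h1P : (1 : Mt) - aeval N (a * f12) = aeval N (a' * g) := by
    rw [sub_eq_iff_eq_add, ← map_add, add_comm, hab, map_one]
  have h := split_trivial (aeval N (a * f12)) fun x y => by
    rw [bsymm, h1P, vecMul_aeval_mul]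
    refine orth_kernel hπ hcb hcc ?_ _
    rw [vecMul_vecMul, ← map_mul, hzero, vecMul_zero]
  rcases h with h | h
  · have h2 := congrArg Matrix.det h1P
    rw [h, sub_zero, det_one, map_mul, det_mul,
      det_aeval_eq_zero N g hgm (by omega) ⟨f12, by rw [hc, mul_comm]⟩, mul_zero] at h2
    exact one_ne_zero h2
  · have h2 := congrArg Matrix.det h
    rw [det_one, map_mul, det_mul,
      det_aeval_eq_zero N f12 f12_monic (by rw [f12_deg]; norm_num) ⟨g, hc⟩, mul_zero] at h2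
    exact zero_ne_one h2

/-- the characteristic polynomial -/
theorem charpoly_eq {r : ℕ} [Fact r.Prime] (hrW : ¬ r ∣ Nat.card cE6.G.Wg)
    (e : Fin chevE6.rank → ZMod r) (he : e ≠ 0) {μ : ZMod r} (hμ : IsPrimitiveRoot μ 12)
    (hev : red (ZMod r) N *ᵥ e = μ • e) : (wm cE6 π).charpoly = f12 * f3 := by
  have hd := cyclotomic_dvd_charpoly N (wm_pow_natCard hπ) hrW e he hμ hev
  rw [show red ℚ N = (wm cE6 π).map (Int.castRingHom ℚ) from rfl, Matrix.charpoly_map,
    ← map_cyclotomic 12 (Int.castRingHom ℚ),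
    Polynomial.map_dvd_map _ Int.cast_injective (cyclotomic.monic _ _), f12_eq] at hd
  obtain ⟨g, hg⟩ := hd
  have hgm : g.Monic := f12_monic.of_mul_monic_left (hg ▸ (wm cE6 π).charpoly_monic)
  have hgd : g.natDegree = 2 := by
    have h := congrArg natDegree hg
    rw [f12_monic.natDegree_mul hgm, Matrix.charpoly_natDegree_eq_dim, Fintype.card_fin, f12_deg,
      rank_eq] at h
    omega
  obtain ⟨b, hb⟩ : ∃ b, b = g.coeff 1 := ⟨_, rfl⟩
  obtain ⟨c, hc⟩ : ∃ c, c = g.coeff 0 := ⟨_, rfl⟩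
  have hgeq : g = X ^ 2 + C b * X + C c := by
    conv_lhs => rw [g.as_sum_range_C_mul_X_pow]
    rw [hgd, Finset.sum_range_succ, Finset.sum_range_succ, Finset.sum_range_succ,
      Finset.sum_range_zero, zero_add, show g.coeff 2 = 1 from hgd ▸ hgm.coeff_natDegree,
      hb, hc, map_one, one_mul, pow_zero, mul_one, pow_one]
    abel
  have hc1 : c = 1 ∨ c = -1 := by
    refine Int.isUnit_iff.1 ?_
    have h := (wm cE6 π).det_eq_sign_charpoly_coeff
    rw [hg, mul_coeff_zero, ← hc, show f12.coeff 0 = 1 by simp [f12], Fintype.card_fin,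
      show (-1 : ℤ) ^ chevE6.rank = 1 from Even.neg_one_pow ⟨3, rank_eq⟩, one_mul, one_mul] at h
    rw [← h]
    exact IsUnit.of_pow_eq_one (by rw [← det_pow, wm_pow_natCard hπ, det_one])
      Nat.card_pos.ne'
  -- a vector in the kernel
  obtain ⟨y, hy0, hy⟩ := Matrix.exists_vecMul_eq_zero_iff.2
    (det_aeval_eq_zero N g hgm (by omega) ⟨f12, by rw [hg, mul_comm]⟩)
  rw [hgeq, vec_quad] at hy
  set n := 𝐁 y y
  set x := 𝐁 y (y ᵥ* N)
  have hn : 0 < n := lt_of_le_of_ne (norm_nonneg y) fun h => hy0 (eq_zero_of_norm h.symm)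
  have e1 := congrArg (fun w => 𝐁 (y ᵥ* N) w) hy
  simp only [bil_add_right, bil_smul_right, binv hπ] at e1
  rw [bsymm _ 0, bil_zero_left, bsymm (y ᵥ* N) y] at e1
  change x + b * n + c * x = 0 at e1
  have hp := norm_nonneg (y + y ᵥ* N)
  have hm := norm_nonneg (y - y ᵥ* N)
  simp only [bil_add_left, bil_add_right, binv hπ, bsymm (y ᵥ* N) y] at hp
  simp only [bil_sub_left, bil_sub_right, binv hπ, bsymm (y ᵥ* N) y] at hm
  have hcls : ((((wm cE6 π).charpoly).eval 1 : ℤ) : ZMod 3) = 0 :=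
    no_class_E6 hπ _ (aeval_self_charpoly _)
  rw [hg, hgeq, f12] at hcls
  norm_num at hcls
  have h3 : (3 : ℤ) ∣ 1 + b + c := by
    rw [← Nat.cast_ofNat, ← ZMod.intCast_zmod_eq_zero_iff_dvd]
    push_cast
    exact hcls
  rw [hg, hgeq]
  rw [hgeq] at hg
  rcases hc1 with rfl | rfl
  · have hb2 : b ≤ 2 := by
      by_contra hlt
      nlinarith [mul_pos (show (0 : ℤ) < b - 2 by omega) hn]
    have hb2' : -2 ≤ b := by
      by_contra hlt
      nlinarith [mul_pos (show (0 : ℤ) < -2 - b by omega) hn]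
    rcases (show b = 1 ∨ b = -2 by omega) with rfl | rfl
    · rw [f3, map_one, one_mul]
    · exfalso
      refine no_bezout hπ (a := 2 - f12) (a' := X ^ 4 * (X + 1) ^ 2) (by norm_num) (by norm_num) ?_ hg
      rw [f12]
      simp only [map_neg, map_one, map_ofNat]
      ring
  · exfalso
    obtain rfl : b = 0 := by
      rcases mul_eq_zero.1 (show b * n = 0 by linarith) with h | h
      · exact h
      · omega
    refine no_bezout hπ (a := 1) (a' := -X ^ 2) (by norm_num) (by norm_num) ?_ hg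
    rw [f12]
    simp only [map_neg, map_one, map_zero]
    ring

variable (hN : (wm cE6 π).charpoly = f12 * f3)
include hN

omit hπ in
theorem pow_twelve : N ^ 12 = 1 := by
  have e : (X : ℤ[X]) ^ 12 - 1 = f12 * f3 * ((X - 1) * (X ^ 3 + 1) * (X ^ 2 + 1)) := by
    rw [f12, f3]; ring
  have h := congrArg (aeval N) e
  rw [map_mul, ← hN, aeval_self_charpoly, zero_mul, map_sub, map_pow, aeval_X, map_one] at h
  exact sub_eq_zero.1 h

omit hπ in
theorem f12_mul_f3 : aeval N f12 * aeval N f3 = 0 := by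
  rw [← map_mul, ← hN, aeval_self_charpoly]

omit hπ in
theorem two_eq : (2 : ℤ) • (1 : Mt) = aeval N uP - N * aeval N f12 := by
  rw [uP, map_add, map_mul, aeval_X, add_sub_cancel_right, map_ofNat, ← one_add_one_eq_two,
    add_smul, one_smul]
  exact one_add_one_eq_two

omit hπ in
theorem det_f12 : (aeval N f12).det = 0 :=
  det_aeval_eq_zero N f12 f12_monic (by rw [f12_deg]; norm_num) ⟨f3, hN⟩

omit hπ in
theorem det_f3 : (aeval N f3).det = 0 :=
  det_aeval_eq_zero N f3 f3_monic (by rw [f3_deg]; norm_num) ⟨f12, by rw [hN, mul_comm]⟩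

/-- the two kernels are orthogonal -/
theorem orth {z y : V} (hz : z ᵥ* aeval N f12 = 0) (hy : y ᵥ* aeval N f3 = 0) : 𝐁 z y = 0 := by
  have e : z ᵥ* aeval N uP = (2 : ℤ) • z := by
    rw [uP, mul_comm (X : ℤ[X]) f12, map_add, vecMul_add, vecMul_aeval_mul, hz, zero_vecMul, add_zero,
      map_ofNat, ← one_add_one_eq_two, vecMul_add, vecMul_one, two_smul]
  rw [uP_eq, mul_comm, vecMul_aeval_mul] at e
  have h := orth_f3 hπ hy (z ᵥ* aeval N ((X : ℤ[X]) ^ 3 - X ^ 2 - X + 2))
  rw [e, bil_smul_left] at h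
  omega

/-- a fundamental root outside both kernels -/
theorem exists_cyclic : ∃ a : V, a ᵥ* aeval N f12 ≠ 0 ∧ a ᵥ* aeval N f3 ≠ 0 := by
  classical
  by_contra hall
  push Not at hall
  let f : Fin chevE6.rank → Bool := fun i => decide ((Pi.single i 1 : V) ᵥ* aeval N f12 = 0)
  have hf : ∀ i j, 𝐁 (Pi.single i 1) (Pi.single j 1) ≠ 0 → f i = f j := by
    intro i j hij
    simp only [f, decide_eq_decide]
    constructor
    · exact fun hi => by_contra fun hj => hij (orth hπ hN hi (hall _ hj))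
    · exact fun hj => by_contra fun hi => hij (by rw [bsymm]; exact orth hπ hN hj (hall _ hi))
  have hc := connectedE6 f hf
  have key : ∀ p : ℤ[X], (∀ i, (Pi.single i 1 : V) ᵥ* aeval N p = 0) → aeval N p = 0 := by
    intro p hp
    ext i j
    simpa using congrFun (hp i) j
  have h2 : ((2 : ℤ) • (1 : Mt)).det ≠ 0 := by
    rw [det_smul, det_one, mul_one]; exact pow_ne_zero _ two_ne_zero
  by_cases h0 : ∀ i, (Pi.single i 1 : V) ᵥ* aeval N f12 = 0
  · refine h2 ?_
    rw [two_eq hN, key f12 h0, mul_zero, sub_zero, uP_eq, map_mul, det_mul, det_f3 hN, zero_mul]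
  · obtain ⟨i, hi⟩ := not_forall.1 h0
    refine h2 ?_
    have h3 : ∀ j, (Pi.single j 1 : V) ᵥ* aeval N f3 = 0 := fun j => hall _ fun hj => by
      have := hc i j
      simp only [f, decide_eq_decide] at this
      exact hi (this.2 hj)
    rw [two_eq hN, uP_eq, map_mul, key f3 h3, zero_mul, zero_sub, det_neg, det_mul, det_f12 hN,
      mul_zero, mul_zero]

omit hπ in
theorem charpoly_rat : (red ℚ N).charpoly = cyclotomic 12 ℚ * cyclotomic 3 ℚ := by
  rw [show red ℚ N = (wm cE6 π).map (Int.castRingHom ℚ) from rfl, Matrix.charpoly_map, hN,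
    ← f12_eq, ← f3_eq, Polynomial.map_mul, map_cyclotomic, map_cyclotomic]

omit hπ hN in
theorem red_cyclotomic (M : Mt) : red ℚ (aeval M f12) = aeval (red ℚ M) (cyclotomic 12 ℚ) ∧
    red ℚ (aeval M f3) = aeval (red ℚ M) (cyclotomic 3 ℚ) := by
  rw [red_aeval, red_aeval, ← f12_eq, ← f3_eq, map_cyclotomic, map_cyclotomic]
  exact ⟨rfl, rfl⟩

omit hπ in
theorem orbit_rat {a : V} (h1 : a ᵥ* aeval N f12 ≠ 0) (h2 : a ᵥ* aeval N f3 ≠ 0) :
    (orbitMat (red ℚ N) fun k => (a k : ℚ)).det ≠ 0 := by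
  have aux : ∀ M : Mt, a ᵥ* M ≠ 0 → (fun k => (a k : ℚ)) ᵥ* red ℚ M ≠ 0 := fun M h h' => h (by
    rw [← red_vecMul] at h'
    funext k
    exact Int.cast_eq_zero.1 (congrFun h' k))
  refine orbit_det_of_two (cyclotomic.irreducible_rat (by norm_num))
    (cyclotomic.irreducible_rat (by norm_num)) (cyclotomic.isCoprime_rat (by norm_num))
    (charpoly_rat hN) ?_ ?_
  · rw [← (red_cyclotomic _).1]; exact aux _ h1
  · rw [← (red_cyclotomic _).2]; exact aux _ h2

omit hπ in
theorem orbit_int {a : V} (h1 : a ᵥ* aeval N f12 ≠ 0) (h2 : a ᵥ* aeval N f3 ≠ 0) :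
    (orbitMat N a).det ≠ 0 := by
  intro hdet
  refine orbit_rat hN h1 h2 ?_
  have e : red ℚ (orbitMat N a) = orbitMat (red ℚ N) (fun i => (a i : ℚ)) := by
    ext i m
    simp only [orbitMat, red_apply, Matrix.of_apply, vecMul, dotProduct, ← map_pow]
    push_cast
    rfl
  rw [← e, red, ← RingHom.map_det, hdet, map_zero]

theorem kill3 {Y Z : Mt} (hY : Commute N Y) (hZ : Commute N Z) (h : aeval N f3 * (Y * Z) = 0) :
    aeval N f3 * Y = 0 ∨ aeval N f3 * Z = 0 := by
  obtain ⟨a, h1, h2⟩ := exists_cyclic hπ hN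
  have := congrArg (red ℚ) h
  rw [map_mul, map_mul, map_zero, (red_cyclotomic _).2] at this
  refine (kill_or (orbit_rat hN h1 h2) (cyclotomic.irreducible_rat (n := 12) (by norm_num))
    (by rw [charpoly_rat hN, mul_comm]) (hY.map _) (hZ.map _) this).imp ?_ ?_
  all_goals exact fun h' => red_injective (by rw [map_mul, (red_cyclotomic _).2, h', map_zero])

theorem kill12 {Y Z : Mt} (hY : Commute N Y) (hZ : Commute N Z) (h : aeval N f12 * (Y * Z) = 0) :
    aeval N f12 * Y = 0 ∨ aeval N f12 * Z = 0 := by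
  obtain ⟨a, h1, h2⟩ := exists_cyclic hπ hN
  have := congrArg (red ℚ) h
  rw [map_mul, map_mul, map_zero, (red_cyclotomic _).1] at this
  refine (kill_or (orbit_rat hN h1 h2) (cyclotomic.irreducible_rat (n := 3) (by norm_num))
    (charpoly_rat hN) (hY.map _) (hZ.map _) this).imp ?_ ?_
  all_goals exact fun h' => red_injective (by rw [map_mul, (red_cyclotomic _).1, h', map_zero])

/-- the image of `uP` is not even -/
theorem no_half : ¬ ∃ P : Mt, aeval N uP = (2 : ℤ) • P := by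
  rintro ⟨P, hP⟩
  have h1P : (2 : ℤ) • ((1 : Mt) - P) = -(N * aeval N f12) := by
    rw [smul_sub, ← hP, two_eq hN]; abel
  have h := split_trivial P fun x y => by
    have e : 𝐁 ((2 : ℤ) • (x ᵥ* P)) ((2 : ℤ) • (y ᵥ* (1 - P))) = 0 := by
      rw [← vecMul_smul, ← vecMul_smul, ← hP, h1P, uP_eq, mul_comm f3, vecMul_aeval_mul]
      refine orth_f3 hπ ?_ _
      rw [vecMul_vecMul, neg_mul, mul_assoc, f12_mul_f3 hN, mul_zero, neg_zero, vecMul_zero]
    rw [bil_smul_left, bil_smul_right] at e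
    omega
  have h2 : ((2 : ℤ) • (1 : Mt)).det ≠ 0 := by
    rw [det_smul, det_one, mul_one]; exact pow_ne_zero _ two_ne_zero
  rcases h with rfl | rfl
  · refine h2 ?_
    rw [show (2 : ℤ) • (1 : Mt) = -(N * aeval N f12) by rw [← h1P, sub_zero], det_neg, det_mul,
      det_f12 hN, mul_zero, mul_zero]
  · refine h2 ?_
    rw [← hP, uP_eq, map_mul, det_mul, det_f3 hN, zero_mul]

end CfsgLib.Lie.CoxE6
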