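import Cfsg.Agent.Lib.Lie.Chev.CoxE6Torus.Lattice

/-!
# Regularity of the eigenvectors of order twelve, and their stabilisers in the Weyl group
-/

set_option autoImplicit false
set_option maxRecDepth 100000

namespace CfsgLib.Lie.CoxE6

open Cfsg.Lie CfsgLib.Lie.Chev CfsgLib.Lie.CoxTorus CfsgLib.Lie.Homocyclic
open Matrix Polynomial

local notation "V" => (Fin chevE6.rank → ℤ)
local notation "Mt" => Matrix (Fin chevE6.rank) (Fin chevE6.rank) ℤ
local notation "𝐁" => bil cE6

theorem root_norm (s : Fin chevE6.nroots) : 𝐁 (cE6.G.rho s) (cE6.G.rho s) = 2 :=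
  (rootsE6 ⟨0, by decide +kernel⟩ s).2.2.1

theorem det_cM : (cM cE6).det ∣ 3 ∧ (cM cE6).det ≠ 0 := by decide +kernel

theorem mod_three : ∀ u v : ZMod 3, u * u + u * v + v * v = 0 → 2 * u + v = 0 ∧ u + 2 * v = 0 := by
  decide

theorem gram_apply {ι : Type*} (M : Matrix ι (Fin chevE6.rank) ℤ) (i j : ι) :
    (M * cM cE6 * Mᵀ) i j = 𝐁 (M i) (M j) := by
  rw [bil, dotProduct_mulVec, Matrix.mul_apply]
  rfl

theorem det_gram_four (x : ℤ) :
    (!![2, x, 1, 0; x, 2, x, 1; 1, x, 2, x; 0, 1, x, 2]).det = (x ^ 2 - 3) ^ 2 := by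
  simp [Matrix.det_succ_row_zero, Fin.sum_univ_succ, Fin.succAbove]
  ring

theorem dot_aeval {r : ℕ} {M : Mt} {e : Fin chevE6.rank → ZMod r} {μ : ZMod r}
    (hev : red (ZMod r) M *ᵥ e = μ • e) (v : V) (p : ℤ[X]) :
    (fun k => (((v ᵥ* aeval M p) k : ℤ) : ZMod r)) ⬝ᵥ e =
      (p.map (Int.castRingHom (ZMod r))).eval μ * ((fun k => (v k : ZMod r)) ⬝ᵥ e) := by
  rw [red_vecMul, ← dotProduct_mulVec, red_aeval, aeval_mulVec_eigen hev, dotProduct_smul,
    smul_eq_mul]

variable {π : Equiv.Perm (Fin chevE6.nroots)} (hπ : π ∈ cE6.G.Wg)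
  (hN : (wm cE6 π).charpoly = f12 * f3)

local notation "N" => wm cE6 π

include hπ hN

/-- no root lies in the kernel of `Φ₃` -/
theorem root_f3 (s : Fin chevE6.nroots) : cE6.G.rho s ᵥ* aeval N f3 ≠ 0 := by
  intro h
  set a := cE6.G.rho s
  set a1 := a ᵥ* N
  have e2 : a1 ᵥ* N = -a1 - a := by
    have h' := h
    rw [show f3 = X ^ 2 + C 1 * X + C 1 by rw [f3, map_one, one_mul], vec_quad, one_smul,
      one_smul] at h'
    funext k
    have := congrFun h' k
    simp only [Pi.add_apply, Pi.sub_apply, Pi.neg_apply, Pi.zero_apply] at this ⊢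
    linarith
  have hna : 𝐁 a a = 2 := root_norm s
  have hnb : 𝐁 a1 a1 = 2 := by rw [binv hπ, hna]
  have hab : 𝐁 a a1 = -1 := by
    have h1 := binv hπ a a1
    change 𝐁 a1 (a1 ᵥ* N) = _ at h1
    rw [e2, show -a1 - a = (-1 : ℤ) • a1 + (-1 : ℤ) • a by rw [neg_one_smul, neg_one_smul]; abel,
      bil_add_right, bil_smul_right, bil_smul_right, hnb, bsymm a1 a] at h1
    omega
  have h1f : a1 ᵥ* aeval N f3 = 0 := by
    have : Commute N (aeval N f3) := by
      have := (Commute.all (X : ℤ[X]) f3).map (aeval N)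
      rwa [aeval_X] at this
    rw [vecMul_vecMul, this.eq, ← vecMul_vecMul, h, zero_vecMul]
  have heven : ∀ x : V, ∃ z : V, x ᵥ* aeval N uP = (2 : ℤ) • z := by
    intro x
    set y := (2 : ℤ) • x - x ᵥ* aeval N uP with hy
    have hU : ∀ w : V, w ᵥ* aeval N f3 = 0 → 𝐁 (x ᵥ* aeval N uP) w = 0 := fun w hw => by
      rw [uP_eq, mul_comm, vecMul_aeval_mul]
      exact orth_f3 hπ hw _
    have hyf : y ᵥ* aeval N f3 = 0 := by
      have e : y = x ᵥ* -(N * aeval N f12) := by
        rw [hy, ← vecMul_one ((2 : ℤ) • x), smul_vecMul, ← vecMul_smul, two_eq hN, vecMul_sub,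
          vecMul_neg]
        abel
      rw [e, vecMul_vecMul, neg_mul, mul_assoc, f12_mul_f3 hN, mul_zero, neg_zero, vecMul_zero]
    set u := 𝐁 x a
    set v := 𝐁 x a1
    have hya : 𝐁 y a = 2 * u := by rw [hy, bil_sub_left, bil_smul_left, hU a h, sub_zero]
    have hyb : 𝐁 y a1 = 2 * v := by rw [hy, bil_sub_left, bil_smul_left, hU a1 h1f, sub_zero]
    set z3 := (3 : ℤ) • y - ((2 * (2 * u + v)) • a + (2 * (u + 2 * v)) • a1) with hz3
    have hza : 𝐁 z3 a = 0 := by
      rw [hz3, bil_sub_left, bil_smul_left, bil_add_left, bil_smul_left, bil_smul_left, hya, hna,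
        bsymm a1 a, hab]
      ring
    have hzb : 𝐁 z3 a1 = 0 := by
      rw [hz3, bil_sub_left, bil_smul_left, bil_add_left, bil_smul_left, bil_smul_left, hyb, hab,
        hnb]
      ring
    have hzf : z3 ᵥ* aeval N f3 = 0 := by
      rw [hz3, sub_vecMul, add_vecMul, smul_vecMul, smul_vecMul, smul_vecMul, hyf, h, h1f]
      simp
    have hz0 : z3 = 0 := by
      obtain ⟨a₀, h1, h2⟩ := exists_cyclic hπ hN
      have hcast : ∀ w : V, w ᵥ* aeval N f3 = 0 →
          (fun k => (w k : ℚ)) ᵥ* aeval (red ℚ N) (cyclotomic 3 ℚ) = 0 := fun w hw => by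
        rw [← (red_cyclotomic _).2, ← red_vecMul, hw]
        simp
        rfl
      have ha0 : (fun k => (a k : ℚ)) ≠ 0 := fun e => cE6.G.rho_ne_zero s
        (funext fun k => Int.cast_eq_zero.1 (congrFun e k))
      obtain ⟨p, hp, hpd⟩ := exists_poly_kernel (orbit_rat hN h1 h2)
        (cyclotomic.irreducible_rat (n := 3) (by norm_num)) (cyclotomic.monic _ _) (charpoly_rat hN)
        (hcast z3 hzf) (hcast a h) ha0
      have hp1 : p = C (p.coeff 1) * X + C (p.coeff 0) := by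
        refine eq_X_add_C_of_degree_le_one ?_
        rw [degree_cyclotomic, show Nat.totient 3 = 2 from rfl] at hpd
        exact Order.le_of_lt_succ hpd
      rw [hp1, map_add, map_mul, aeval_C, aeval_C, aeval_X, vecMul_add, ← Algebra.smul_def,
        Algebra.algebraMap_eq_smul_one, vecMul_smul, vecMul_smul, vecMul_one, ← red_vecMul] at hp
      set c := p.coeff 1
      set d := p.coeff 0
      have e : ((c.den * d.den : ℕ) : ℤ) • z3 =
          (c.num * d.den) • a1 + (d.num * c.den) • a := by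
        funext k
        have hk := congrFun hp k
        simp only [Pi.add_apply, Pi.smul_apply, smul_eq_mul] at hk ⊢
        have : (((c.den * d.den : ℕ) : ℤ) : ℚ) * (z3 k : ℚ) =
            ((c.num * d.den : ℤ) : ℚ) * (a1 k : ℚ) + ((d.num * c.den : ℤ) : ℚ) * (a k : ℚ) := by
          push_cast
          rw [hk, ← Rat.mul_den_eq_num c, ← Rat.mul_den_eq_num d]
          ring
        exact_mod_cast this
      have e' := congrArg (fun w => 𝐁 w z3) e
      simp only [bil_smul_left, bil_add_left] at e'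
      rw [bsymm a1 z3, hzb, bsymm a z3, hza, mul_zero, mul_zero, add_zero] at e'
      refine eq_zero_of_norm ((mul_eq_zero.1 e').resolve_left ?_)
      exact_mod_cast Nat.mul_ne_zero c.den_pos.ne' d.den_pos.ne'
    have e3 : (3 : ℤ) • y = (2 * (2 * u + v)) • a + (2 * (u + 2 * v)) • a1 := sub_eq_zero.1 hz0
    have e4 := congrArg (fun w => 𝐁 w w) e3
    simp only [bil_smul_left, bil_smul_right, bil_add_left, bil_add_right, hna, hnb, hab,
      bsymm a1 a] at e4
    have h3 : (3 : ℤ) ∣ u * u + u * v + v * v := by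
      have e5 : 3 * 𝐁 y y = 8 * (u * u + u * v + v * v) := by linarith
      omega
    have h3' : ((u : ZMod 3) * u + u * v + v * v) = 0 := by
      have := (ZMod.intCast_zmod_eq_zero_iff_dvd (u * u + u * v + v * v) 3).2 h3
      push_cast at this
      exact this
    obtain ⟨hA, hB⟩ := mod_three _ _ h3'
    obtain ⟨A, hA'⟩ := (ZMod.intCast_zmod_eq_zero_iff_dvd (2 * u + v) 3).1 (by push_cast; exact hA)
    obtain ⟨B, hB'⟩ := (ZMod.intCast_zmod_eq_zero_iff_dvd (u + 2 * v) 3).1 (by push_cast; exact hB)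
    push_cast at hA' hB'
    refine ⟨x - (A • a + B • a1), ?_⟩
    funext k
    have hk := congrFun e3 k
    simp only [hy, Pi.sub_apply, Pi.add_apply, Pi.smul_apply, smul_eq_mul, hA', hB'] at hk ⊢
    linarith
  choose z hz using heven
  refine no_half hπ hN ⟨Matrix.of fun i => z (Pi.single i 1), ?_⟩
  ext i j
  have := congrFun (hz (Pi.single i 1)) j
  simpa using this

variable {r : ℕ} [Fact r.Prime] {e : Fin chevE6.rank → ZMod r} {μ : ZMod r}
  (hev : red (ZMod r) (wm cE6 π) *ᵥ e = μ • e)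

include hev

variable (he : e ≠ 0) (hμ : IsPrimitiveRoot μ 12) (h13 : 13 ≤ r)

include he hμ h13

omit hπ hN hev he h13 in
theorem eval_f12 : (f12.map (Int.castRingHom (ZMod r))).eval μ = 0 := by
  rw [← f12_eq, map_cyclotomic]
  exact IsPrimitiveRoot.isRoot_cyclotomic (by norm_num) hμ

/-- the eigenvector is regular -/
theorem regular (s : Fin chevE6.nroots) : (fun k => (cE6.G.rho s k : ZMod r)) ⬝ᵥ e ≠ 0 := by
  have hr := (Fact.out : r.Prime)
  intro h0
  set a := cE6.G.rho s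
  have hrow : ∀ i : ℕ, (fun k => (((a ᵥ* N ^ i) k : ℤ) : ZMod r)) ⬝ᵥ e = 0 := fun i => by
    have := dot_aeval hev a (X ^ i)
    rwa [aeval_X_pow, h0, mul_zero] at this
  by_cases h12 : a ᵥ* aeval N f12 = 0
  swap
  · -- the orbit is a basis of a sublattice of small index
    set A := orbitMat N a with hA
    have hdet : A.det ≠ 0 := orbit_int hN h12 (root_f3 hπ hN s)
    have hAe : red (ZMod r) A *ᵥ e = 0 := funext fun i => hrow i
    have hdvd : (r : ℤ) ∣ A.det := by
      rw [← ZMod.intCast_zmod_eq_zero_iff_dvd]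
      have h2 : (red (ZMod r) A).det = 0 := Matrix.exists_mulVec_eq_zero_iff.1 ⟨e, he, hAe⟩
      rw [← h2]
      exact (Int.castRingHom (ZMod r)).map_det A
    have hb := det_bound uE6 uE6_tri dE6 A 120 fun i => by
      rw [qlen_eq]
      have : 𝐁 (A i) (A i) = 2 := by
        show 𝐁 (a ᵥ* N ^ (i : ℕ)) (a ᵥ* N ^ (i : ℕ)) = 2
        induction (i : ℕ) with
        | zero => rw [pow_zero, vecMul_one]; exact root_norm s
        | succ n ih => rw [pow_succ, ← vecMul_vecMul, binv hπ, ih]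
      rw [this]
      norm_num
    rw [bound_const.1, show ((120 : ℕ) : ℤ) ^ chevE6.rank = 2985984000000 by rw [rank_eq]; norm_num]
      at hb
    have hc : (r : ℤ) ^ 2 ≤ A.det ^ 2 := by
      rw [← sq_abs A.det]
      exact pow_le_pow_left₀ (by positivity)
        (Int.le_of_dvd (abs_pos.2 hdet) ((dvd_abs _ _).2 hdvd)) 2
    have hr2 : (169 : ℤ) ≤ (r : ℤ) ^ 2 := by
      have : (13 : ℤ) ≤ r := by exact_mod_cast h13
      nlinarith
    push_cast at hb
    nlinarith
  -- the root spans with its images a lattice of type `A₂ ⊕ A₂`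
  set a1 := a ᵥ* N
  set a2 := a1 ᵥ* N
  set a3 := a2 ᵥ* N
  have e4 : a3 ᵥ* N = a2 - a := by
    rw [f12, map_add, map_sub, map_pow, map_pow, aeval_X, map_one, vecMul_add, vecMul_sub,
      vecMul_one] at h12
    rw [show a3 ᵥ* N = a ᵥ* N ^ 4 by simp [a3, a2, a1, vecMul_vecMul, pow_succ, mul_assoc],
      show a2 = a ᵥ* N ^ 2 by simp [a2, a1, vecMul_vecMul, pow_two]]
    rw [← sub_eq_zero, ← h12]
    abel
  have n0 : 𝐁 a a = 2 := root_norm s
  have n1 : 𝐁 a1 a1 = 2 := by rw [binv hπ, n0]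
  have n2 : 𝐁 a2 a2 = 2 := by rw [binv hπ, n1]
  have n3 : 𝐁 a3 a3 = 2 := by rw [binv hπ, n2]
  have i12 : 𝐁 a1 a2 = 𝐁 a a1 := binv hπ a a1
  have i23 : 𝐁 a2 a3 = 𝐁 a a1 := (binv hπ a1 a2).trans i12
  have i13 : 𝐁 a1 a3 = 𝐁 a a2 := binv hπ a a2
  have hB2 : 𝐁 a a2 = 1 := by
    have h1 := binv hπ a1 a3
    rw [e4, bil_sub_right, n2, bsymm a2 a, i13] at h1
    omega
  have hB3 : 𝐁 a a3 = 0 := by
    have h1 := binv hπ a a3
    rw [e4, bil_sub_right, i12, bsymm a1 a] at h1
    omega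
  set x := 𝐁 a a1
  have hx : -2 ≤ x ∧ x ≤ 2 := by
    have hp := norm_nonneg (a + a1)
    have hm := norm_nonneg (a - a1)
    simp only [bil_add_left, bil_add_right, n0, n1, bsymm a1 a] at hp
    simp only [bil_sub_left, bil_sub_right, n0, n1, bsymm a1 a] at hm
    constructor <;> linarith
  -- a vector in the other kernel
  obtain ⟨i, hi⟩ : ∃ i, (Pi.single i 1 : V) ᵥ* (N * aeval N f12) ≠ 0 := by
    by_contra hall
    push Not at hall
    have hz : N * aeval N f12 = 0 := by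
      ext i j
      simpa using congrFun (hall i) j
    have h2 : ((2 : ℤ) • (1 : Mt)).det ≠ 0 := by
      rw [det_smul, det_one, mul_one]; exact pow_ne_zero _ two_ne_zero
    refine h2 ?_
    rw [two_eq hN, hz, sub_zero, uP_eq, map_mul, det_mul, det_f3 hN, zero_mul]
  set α : V := Pi.single i 1
  set y := α ᵥ* (N * aeval N f12) with hy
  set y1 := y ᵥ* N
  have hyf : y ᵥ* aeval N f3 = 0 := by
    rw [hy, vecMul_vecMul, mul_assoc, f12_mul_f3 hN, mul_zero, vecMul_zero]
  have hy2 : y1 ᵥ* N = -y1 - y := by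
    have h' := hyf
    rw [show f3 = X ^ 2 + C 1 * X + C 1 by rw [f3, map_one, one_mul], vec_quad, one_smul,
      one_smul] at h'
    funext k
    have := congrFun h' k
    simp only [Pi.add_apply, Pi.sub_apply, Pi.neg_apply, Pi.zero_apply] at this ⊢
    linarith
  set n := 𝐁 y y
  have hn0 : 0 < n := lt_of_le_of_ne (norm_nonneg y) fun h => hi (eq_zero_of_norm h.symm)
  have hn1 : 𝐁 y1 y1 = n := binv hπ _ _
  set x' := 𝐁 y y1
  have hxn : 2 * x' = -n := by
    have h1 := binv hπ y y1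
    rw [show (-y1 - y : V) = (-1 : ℤ) • y1 + (-1 : ℤ) • y by rw [neg_one_smul, neg_one_smul]; abel]
      at hy2
    rw [hy2, bil_add_right, bil_smul_right, bil_smul_right, hn1, bsymm y1 y] at h1
    omega
  have hn8 : n ≤ 8 := by
    have e2 : α ᵥ* aeval N uP = (2 : ℤ) • α + y := by
      rw [hy, ← vecMul_one ((2 : ℤ) • α), smul_vecMul, ← vecMul_smul, two_eq hN, vecMul_sub,
        sub_add_cancel]
    have h1 : 𝐁 (α ᵥ* aeval N uP) y = 0 := by
      rw [uP_eq, mul_comm, vecMul_aeval_mul]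
      exact orth_f3 hπ hyf _
    have h2 := norm_nonneg (α ᵥ* aeval N uP)
    rw [e2, bil_add_left, bil_smul_left] at h1
    rw [e2] at h2
    simp only [bil_add_left, bil_add_right, bil_smul_left, bil_smul_right, bsymm y α] at h2
    rw [show 𝐁 α α = 2 from normSimple i] at h2
    linarith
  -- the six vectors
  let M : Matrix (Fin 4 ⊕ Fin 2) (Fin chevE6.rank) ℤ :=
    Matrix.of (Sum.elim ![a, a1, a2, a3] ![y, y1])
  have hG : M * cM cE6 * Mᵀ = Matrix.fromBlocks !![2, x, 1, 0; x, 2, x, 1; 1, x, 2, x; 0, 1, x, 2]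
      0 0 !![n, x'; x', n] := by
    have hay : ∀ v w : V, v ᵥ* aeval N f12 = 0 → w ᵥ* aeval N f3 = 0 → 𝐁 v w = 0 ∧ 𝐁 w v = 0 :=
      fun v w hv hw => ⟨orth hπ hN hv hw, bsymm v w ▸ orth hπ hN hv hw⟩
    have hstep : ∀ (p : ℤ[X]) (v : V), v ᵥ* aeval N p = 0 → (v ᵥ* N) ᵥ* aeval N p = 0 := by
      intro p v hv
      have : Commute N (aeval N p) := by
        have := (Commute.all (X : ℤ[X]) p).map (aeval N)
        rwa [aeval_X] at this
      rw [vecMul_vecMul, this.eq, ← vecMul_vecMul, hv, zero_vecMul]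
    have hA : ∀ k, (![a, a1, a2, a3] k) ᵥ* aeval N f12 = 0 := fun k => by
      fin_cases k
      exacts [h12, hstep _ _ h12, hstep _ _ (hstep _ _ h12), hstep _ _ (hstep _ _ (hstep _ _ h12))]
    have hY : ∀ k, (![y, y1] k) ᵥ* aeval N f3 = 0 := fun k => by
      fin_cases k
      exacts [hyf, hstep _ _ hyf]
    ext (k | k) (k' | k') <;> rw [gram_apply]
    · show 𝐁 (![a, a1, a2, a3] k) (![a, a1, a2, a3] k') = _
      fin_cases k <;> fin_cases k' <;>
        simp [n0, n1, n2, n3, i12, i13, i23, hB2, hB3, bsymm a1 a, bsymm a2 a, bsymm a3 a,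
          bsymm a2 a1, bsymm a3 a1, bsymm a3 a2, x]
    · exact (hay _ _ (hA k) (hY k')).1
    · exact (hay _ _ (hA k') (hY k)).2
    · show 𝐁 (![y, y1] k) (![y, y1] k') = _
      fin_cases k <;> fin_cases k' <;> simp [hn1, bsymm y1 y, n, x']
  let φ : Fin 4 ⊕ Fin 2 ≃ Fin chevE6.rank := finSumFinEquiv.trans (finCongr rank_eq.symm)
  have hMe : (M.map (Int.castRingHom (ZMod r))) *ᵥ e = 0 := by
    have hye : (fun k => ((y k : ℤ) : ZMod r)) ⬝ᵥ e = 0 := by
      have := dot_aeval hev α (X * f12)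
      rwa [map_mul, aeval_X, ← hy, Polynomial.map_mul, eval_mul, eval_f12 hμ, mul_zero,
        zero_mul] at this
    have hy1e : (fun k => ((y1 k : ℤ) : ZMod r)) ⬝ᵥ e = 0 := by
      have := dot_aeval hev y (X : ℤ[X])
      rwa [aeval_X, hye, mul_zero] at this
    funext k
    rcases k with k | k <;> fin_cases k
    · exact h0
    · show (fun k => ((a1 k : ℤ) : ZMod r)) ⬝ᵥ e = 0
      simpa [a1] using hrow 1
    · show (fun k => ((a2 k : ℤ) : ZMod r)) ⬝ᵥ e = 0
      simpa [a2, a1, vecMul_vecMul, pow_two] using hrow 2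
    · show (fun k => ((a3 k : ℤ) : ZMod r)) ⬝ᵥ e = 0
      simpa [a3, a2, a1, vecMul_vecMul, pow_succ, mul_assoc] using hrow 3
    · exact hye
    · exact hy1e
  set M' := M.submatrix id φ
  have hdetG : (M'.det) ^ 2 * ((cM cE6).submatrix φ φ).det = (x ^ 2 - 3) ^ 2 * (n ^ 2 - x' ^ 2) := by
    have h1 := congrArg Matrix.det hG
    rw [det_fromBlocks_zero₂₁, det_gram_four, det_fin_two_of] at h1
    rw [show n ^ 2 - x' ^ 2 = n * n - x' * x' by ring, ← h1,
      show M * cM cE6 * Mᵀ = M' * (cM cE6).submatrix φ φ * M'ᵀ by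
        simp only [M', transpose_submatrix, submatrix_mul_equiv, submatrix_id_id],
      det_mul, det_mul, det_transpose]
    ring
  have hdvd : (r : ℤ) ∣ M'.det := by
    rw [← ZMod.intCast_zmod_eq_zero_iff_dvd]
    have h2 : (M'.map (Int.castRingHom (ZMod r))).det = 0 := by
      refine Matrix.exists_mulVec_eq_zero_iff.1 ⟨e ∘ φ, ?_, ?_⟩
      · intro h
        exact he (funext fun k => by simpa using congrFun h (φ.symm k))
      · rw [show M'.map (Int.castRingHom (ZMod r)) = (M.map (Int.castRingHom (ZMod r))).submatrix id φ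
          from rfl, submatrix_mulVec_equiv, Function.comp_assoc, φ.self_comp_symm]
        exact hMe
    rw [← h2]
    exact (Int.castRingHom (ZMod r)).map_det M'
  have h5 : (r : ℤ) ∣ (x ^ 2 - 3) ^ 2 * (n ^ 2 - x' ^ 2) :=
    hdetG ▸ Dvd.dvd.mul_right (dvd_pow hdvd two_ne_zero) _
  have hp : Prime (r : ℤ) := Nat.prime_iff_prime_int.1 hr
  have small : ∀ m : ℤ, (r : ℤ) ∣ m → -13 < m → m < 13 → m = 0 := fun m hm h1 h2 =>
    Int.eq_zero_of_abs_lt_dvd hm (lt_of_lt_of_le (abs_lt.2 ⟨h1, h2⟩) (by exact_mod_cast h13))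
  rcases hp.dvd_or_dvd h5 with h | h
  · have hx2 := mul_nonneg (sub_nonneg.2 hx.2) (sub_nonneg.2 hx.1)
    have := small _ (hp.dvd_of_dvd_pow h) (by nlinarith) (by nlinarith)
    rcases (show x = -2 ∨ x = -1 ∨ x = 0 ∨ x = 1 ∨ x = 2 by omega) with h' | h' | h' | h' | h' <;>
      rw [h'] at this <;> norm_num at this
  · rw [show n = -2 * x' by linarith, show (-2 * x') ^ 2 - x' ^ 2 = 3 * x' ^ 2 by ring] at h
    rcases hp.dvd_or_dvd h with h | h
    · exact absurd (small _ h (by norm_num) (by norm_num)) (by norm_num)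
    · exact absurd (small _ (hp.dvd_of_dvd_pow h) (by omega) (by omega)) (by omega)

end CfsgLib.Lie.CoxE6
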