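import Mathlib.RingTheory.IntegralDomain
import Cfsg.Agent.Lib.Lie.Chev.CoxE6Torus.Regular

/-!
# Stabilisers of the eigenvectors of order twelve and of order three
-/

set_option autoImplicit false
set_option maxRecDepth 100000

namespace CfsgLib.Lie.CoxE6

open Cfsg.Lie CfsgLib.Lie.Chev CfsgLib.Lie.CoxTorus CfsgLib.Lie.Homocyclic
open Matrix Polynomial

local notation "Mt" => Matrix (Fin chevE6.rank) (Fin chevE6.rank) ℤ

theorem f3_at_twelve {r : ℕ} [Fact r.Prime] {μ : ZMod r} (hμ : IsPrimitiveRoot μ 12) :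
    (f3.map (Int.castRingHom (ZMod r))).eval μ ≠ 0 := by
  intro h
  simp only [f3, Polynomial.map_add, Polynomial.map_pow, map_X, Polynomial.map_one, eval_add,
    eval_pow, eval_X, eval_one] at h
  have h3 : μ ^ 3 = 1 := by linear_combination (μ - 1) * h
  exact absurd (Nat.le_of_dvd (by norm_num) (hμ.dvd_of_pow_eq_one 3 h3)) (by norm_num)

theorem f12_at_three {r : ℕ} [Fact r.Prime] (hr2 : r ≠ 2) {μ : ZMod r} (hμ : IsPrimitiveRoot μ 3) :
    (f12.map (Int.castRingHom (ZMod r))).eval μ ≠ 0 := by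
  intro h
  simp only [f12, Polynomial.map_add, Polynomial.map_sub, Polynomial.map_pow, map_X,
    Polynomial.map_one, eval_add, eval_sub, eval_pow, eval_X, eval_one] at h
  have h3 := hμ.pow_eq_one
  have h1 : μ ^ 2 + μ + 1 = 0 := by
    refine (mul_eq_zero.1 (show (μ - 1) * (μ ^ 2 + μ + 1) = 0 by linear_combination h3)).resolve_left ?_
    exact sub_ne_zero.2 (hμ.ne_one (by norm_num))
  have h2 : (2 : ZMod r) * (μ + 1) = 0 := by linear_combination h + h1 - μ * h3
  have h2' : (2 : ZMod r) ≠ 0 := fun e => hr2 ((Nat.prime_dvd_prime_iff_eq (Fact.out) Nat.prime_two).1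
    ((ZMod.natCast_eq_zero_iff _ _).1 (by exact_mod_cast e)))
  have hm : μ = -1 := eq_neg_of_add_eq_zero_left ((mul_eq_zero.1 h2).resolve_left h2')
  rw [hm] at h3
  exact h2' (by linear_combination -h3)

variable {π : Equiv.Perm (Fin chevE6.nroots)} (hπ : π ∈ cE6.G.Wg)
  (hN : (wm cE6 π).charpoly = f12 * f3)

local notation "N" => wm cE6 π

include hπ hN

section fixed

variable {r : ℕ} [Fact r.Prime] {e : Fin chevE6.rank → ZMod r} (he : e ≠ 0) {μ : ZMod r}
  (hev : red (ZMod r) (wm cE6 π) *ᵥ e = μ • e) {M : Matrix (Fin chevE6.rank) (Fin chevE6.rank) ℤ}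
  {n : ℕ} (hrn : ¬ r ∣ n) (hM : M ^ n = 1) (hc : Commute (wm cE6 π) M)
  (hfix : red (ZMod r) M *ᵥ e = e)

include he hev hrn hM hc hfix

omit hπ hN hM hc in
theorem sum_fixed {f : ℤ[X]} (hf : (f.map (Int.castRingHom (ZMod r))).eval μ ≠ 0) :
    aeval N f * ∑ i ∈ Finset.range n, M ^ i ≠ 0 := by
  intro h
  have hev1 : red (ZMod r) M *ᵥ e = (1 : ZMod r) • e := by rw [one_smul, hfix]
  have h2 : red (ZMod r) (∑ i ∈ Finset.range n, M ^ i) *ᵥ e = (n : ZMod r) • e := by
    rw [map_sum, sum_mulVec]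
    simp only [map_pow, pow_mulVec_eigen hev1, one_pow, one_smul, Finset.sum_const,
      Finset.card_range, Nat.cast_smul_eq_nsmul]
  have h3 := congrArg (fun A => red (ZMod r) A *ᵥ e) h
  simp only [map_mul, map_zero, zero_mulVec, ← mulVec_mulVec, h2, mulVec_smul, red_aeval,
    aeval_mulVec_eigen hev, smul_smul] at h3
  exact he ((smul_eq_zero.1 h3).resolve_left
    (mul_ne_zero (fun hn => hrn ((ZMod.natCast_eq_zero_iff _ _).1 hn)) hf))

theorem fixed_f3 (hμ : (f3.map (Int.castRingHom (ZMod r))).eval μ ≠ 0) :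
    aeval N f3 * (M - 1) = 0 :=
  (kill3 hπ hN (hc.sub_right (Commute.one_right _))
    (Commute.sum_right _ _ _ fun _ _ => hc.pow_right _)
    (by rw [mul_geom_sum, hM, sub_self, mul_zero])).resolve_right
    (sum_fixed he hev hrn hfix hμ)

theorem fixed_f12 (hμ : (f12.map (Int.castRingHom (ZMod r))).eval μ ≠ 0) :
    aeval N f12 * (M - 1) = 0 :=
  (kill12 hπ hN (hc.sub_right (Commute.one_right _))
    (Commute.sum_right _ _ _ fun _ _ => hc.pow_right _)
    (by rw [mul_geom_sum, hM, sub_self, mul_zero])).resolve_right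
    (sum_fixed he hev hrn hfix hμ)

end fixed

omit hπ in
theorem eq_one_of_kills {M : Mt} (h3 : aeval N f3 * (M - 1) = 0) (h12 : aeval N f12 * (M - 1) = 0) :
    M = 1 := by
  have h : (2 : ℤ) • (M - 1) = 0 := by
    rw [← one_mul (M - 1), ← smul_mul_assoc, two_eq hN, sub_mul, uP_eq, mul_comm, map_mul, mul_assoc,
      h3, mul_assoc, h12, mul_zero, mul_zero, sub_zero]
  exact sub_eq_zero.1 ((smul_eq_zero.1 h).resolve_left (by norm_num))

/-- an element of order dividing three fixing the eigenvector is trivial -/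
theorem eq_one_of_cube {M : Mt} (hc : Commute N M) (h3 : aeval N f3 * (M - 1) = 0) (hM : M ^ 3 = 1) :
    M = 1 := by
  set Q := ∑ i ∈ Finset.range 3, M ^ i with hQ
  have hQc : Commute N Q := Commute.sum_right _ _ _ fun _ _ => hc.pow_right _
  rcases kill12 hπ hN (hc.sub_right (Commute.one_right _)) hQc
    (by rw [hQ, mul_geom_sum, hM, sub_self, mul_zero]) with h | h
  · exact eq_one_of_kills hN h3 h
  exfalso
  have hfM : ∀ i : ℕ, aeval N f3 * M ^ i = aeval N f3 := fun i => by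
    induction i with
    | zero => rw [pow_zero, mul_one]
    | succ i ih =>
      have e : aeval N f3 * M = aeval N f3 := by
        rw [mul_sub, mul_one, sub_eq_zero] at h3; exact h3
      rw [pow_succ, ← mul_assoc, ih, e]
  have hfQ : aeval N f3 * Q = (3 : ℤ) • aeval N f3 := by
    rw [hQ, Finset.mul_sum]
    simp only [hfM, Finset.sum_const, Finset.card_range]
    norm_num
  have h2Q : (2 : ℤ) • Q = (3 : ℤ) • aeval N uP := by
    rw [← one_mul Q, ← smul_mul_assoc, two_eq hN, sub_mul, mul_assoc, h, mul_zero, sub_zero,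
      uP_eq, mul_comm, map_mul, mul_assoc, hfQ, mul_smul_comm]
  refine no_half hπ hN ⟨Q - aeval N uP, ?_⟩
  rw [smul_sub, h2Q, ← sub_smul]
  norm_num

omit hN in
/-- the scalars by which the Weyl group acts on the eigenvector form a group of order twelve -/
theorem eigen_scalar {r : ℕ} [Fact r.Prime] (hrW : ¬ r ∣ Nat.card cE6.G.Wg)
    {e : Fin chevE6.rank → ZMod r} (he : e ≠ 0) {μ : ZMod r} (hμ : IsPrimitiveRoot μ 12)
    (hev : red (ZMod r) N *ᵥ e = μ • e) {π' : Equiv.Perm (Fin chevE6.nroots)} (hπ' : π' ∈ cE6.G.Wg)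
    {j : ZMod r} (hj : red (ZMod r) (wm cE6 π') *ᵥ e = j • e) : j ^ 12 = 1 := by
  classical
  let Λ : Subgroup (ZMod r)ˣ :=
    { carrier := {u | ∃ p ∈ cE6.G.Wg, red (ZMod r) (wm cE6 p) *ᵥ e = (u : ZMod r) • e}
      one_mem' := ⟨1, one_mem _, by rw [wm_one, map_one, one_mulVec, Units.val_one, one_smul]⟩
      mul_mem' := fun {a b} ⟨p, hp, hpe⟩ ⟨p', hp', hpe'⟩ => ⟨p * p', mul_mem hp hp', by
        rw [wm_mul cE6 hp, map_mul, ← mulVec_mulVec, hpe, mulVec_smul, hpe', smul_smul,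
          Units.val_mul]⟩
      inv_mem' := fun {a} ⟨p, hp, hpe⟩ => ⟨p⁻¹, inv_mem hp, by
        have h1 : red (ZMod r) (wm cE6 p⁻¹) *ᵥ ((a : ZMod r) • e) = e := by
          rw [← hpe, mulVec_mulVec, ← map_mul, ← wm_mul cE6 hp, mul_inv_cancel, wm_one, map_one,
            one_mulVec]
        rw [mulVec_smul] at h1
        conv_rhs => rw [← h1]
        rw [smul_smul, Units.inv_mul, one_smul]⟩ }
  obtain ⟨⟨g, p, hp, hpe⟩, hg⟩ := IsCyclic.exists_generator (α := Λ)
  set m := orderOf g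
  have hm : 0 < m := orderOf_pos g
  have hprim : IsPrimitiveRoot (g : ZMod r) m := IsPrimitiveRoot.coe_units_iff.2 (IsPrimitiveRoot.orderOf g)
  have htot : Nat.totient m ≤ 6 := by
    have := totient_le_of_eigen (wm cE6 p) (wm_pow_natCard hp) hrW e he hprim hpe
    rwa [rank_eq] at this
  have hmem : ∀ (u : ZMod r) (p' : Equiv.Perm (Fin chevE6.nroots)), p' ∈ cE6.G.Wg →
      red (ZMod r) (wm cE6 p') *ᵥ e = u • e → u ^ m = 1 := by
    intro u p' hp' hu
    have hu0 : u ≠ 0 := by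
      rintro rfl
      have h1 := congrArg (fun v => red (ZMod r) (wm cE6 p'⁻¹) *ᵥ v) hu
      simp only [mulVec_mulVec, ← map_mul, ← wm_mul cE6 hp', mul_inv_cancel, wm_one, map_one,
        one_mulVec, zero_smul, mulVec_zero] at h1
      exact he h1
    obtain ⟨k, hk⟩ := Subgroup.mem_zpowers_iff.1 (hg ⟨Units.mk0 u hu0, p', hp', hu⟩)
    have hk' : g ^ k = Units.mk0 u hu0 := congrArg Subtype.val hk
    have : Units.mk0 u hu0 ^ m = 1 := by
      rw [← hk', ← _root_.zpow_natCast, ← _root_.zpow_mul, mul_comm, _root_.zpow_mul, _root_.zpow_natCast, pow_orderOf_eq_one,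
        _root_.one_zpow]
    simpa using congrArg Units.val this
  obtain ⟨k, hk⟩ := hμ.dvd_of_pow_eq_one m (hmem μ π hπ hev)
  have h4 := Nat.totient_super_multiplicative 12 k
  rw [← hk, show Nat.totient 12 = 4 from rfl] at h4
  have hk1 : Nat.totient k = 1 := by
    have : 0 < Nat.totient k := Nat.totient_pos.2 (Nat.pos_of_ne_zero fun h => by
      rw [h, mul_zero] at hk; omega)
    omega
  rcases Nat.totient_eq_one_iff.1 hk1 with rfl | rfl
  · rw [show (12 : ℕ) = m by omega]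
    exact hmem j π' hπ' hj
  · rw [hk, show Nat.totient (12 * 2) = 8 from rfl] at htot
    omega

end CfsgLib.Lie.CoxE6
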