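import Cfsg.Agent.Lib.Lie.Chev.CoxTorus.Main
import Cfsg.Agent.Lib.Lie.Chev.Homocyclic.Cases
import Mathlib.GroupTheory.Sylow

/-!
# Monomial parts, eigenvectors and conjugacy in cyclic Sylow subgroups
-/

set_option autoImplicit false

namespace CfsgLib.Lie.CoxE6

open Cfsg.Lie CfsgLib.Lie.Chev CfsgLib.Lie.CoxTorus
open scoped MatrixGroups Matrix

/-- with cyclic Sylow subgroups the subgroups of order `r` are conjugate -/
theorem exists_conj_pow {G : Type*} [Group G] [Finite G] {r : ℕ} [hr : Fact r.Prime]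
    (hcyc : ∀ P : Sylow r G, IsCyclic ↥(P : Subgroup G)) {x y : G} (hx : orderOf x = r)
    (hy : orderOf y = r) : ∃ (k : G) (j : ℕ), k⁻¹ * y * k = x ^ j := by
  classical
  have hp : ∀ z : G, orderOf z = r → IsPGroup r (Subgroup.zpowers z) := fun z hz =>
    IsPGroup.of_card (n := 1) (by rw [Nat.card_zpowers, hz, pow_one])
  obtain ⟨P, hP⟩ := (hp x hx).exists_le_sylow
  obtain ⟨P', hP'⟩ := (hp y hy).exists_le_sylow
  obtain ⟨g, rfl⟩ := MulAction.exists_smul_eq G P' P
  have hxP := hP (Subgroup.mem_zpowers x)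
  have hyP : g * y * g⁻¹ ∈ ((g • P' : Sylow r G) : Subgroup G) := by
    rw [Sylow.coe_subgroup_smul]
    exact ⟨y, hP' (Subgroup.mem_zpowers y), rfl⟩
  haveI := hcyc (g • P')
  haveI : Fintype ↥((g • P' : Sylow r G) : Subgroup G) := Fintype.ofFinite _
  set a : ↥((g • P' : Sylow r G) : Subgroup G) := ⟨x, hxP⟩
  set b : ↥((g • P' : Sylow r G) : Subgroup G) := ⟨g * y * g⁻¹, hyP⟩
  have ha : orderOf a = r := (Subgroup.orderOf_coe a).symm.trans hx
  have har : a ^ r = 1 := by have := pow_orderOf_eq_one a; rwa [ha] at this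
  have hb : b ^ r = 1 := Subtype.ext (by
    show (g * y * g⁻¹) ^ r = 1
    rw [conj_pow, ← hy, pow_orderOf_eq_one, mul_one, mul_inv_cancel])
  have hsub : (Finset.image (fun i => a ^ i) (Finset.range r)) ⊆ Finset.univ.filter fun z => z ^ r = 1 := by
    intro z hz
    obtain ⟨i, -, rfl⟩ := Finset.mem_image.1 hz
    simp only [Finset.mem_filter, Finset.mem_univ, true_and]
    rw [← pow_mul, mul_comm, pow_mul, har, one_pow]
  have heq := Finset.eq_of_subset_of_card_le hsub (by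
    refine (IsCyclic.card_pow_eq_one_le hr.out.pos).trans ?_
    rw [Finset.card_image_of_injOn, Finset.card_range]
    intro i hi i' hi' h
    exact pow_injOn_Iio_orderOf (by simpa [ha] using hi) (by simpa [ha] using hi') h)
  have hbm : b ∈ Finset.univ.filter fun z => z ^ r = 1 := by simp [hb]
  rw [← heq] at hbm
  obtain ⟨i, -, hi⟩ := Finset.mem_image.1 hbm
  exact ⟨g⁻¹, i, by rw [inv_inv]; exact (congrArg Subtype.val hi).symm⟩

/-- exponents of a vector of roots of unity -/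
theorem exists_exponents {K : Type*} [Field K] {l ℓ : ℕ} [NeZero ℓ] {δ : Kˣ}
    (hδ : IsPrimitiveRoot δ ℓ) {u : Fin l → Kˣ} (h : u ^ ℓ = 1) :
    ∃ z : Fin l → ℤ, ∀ k, u k = δ ^ z k := by
  have hex : ∀ k, ∃ i : ℕ, δ ^ i = u k := fun k => by
    obtain ⟨i, -, hi⟩ := (IsPrimitiveRoot.coe_units_iff.2 hδ).eq_pow_of_pow_eq_one
      (show (u k : K) ^ ℓ = 1 by rw [← Units.val_pow_eq_pow_val, ← Pi.pow_apply, h]; rfl)
    exact ⟨i, Units.ext (by rw [Units.val_pow_eq_pow_val, hi])⟩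
  choose i hi using hex
  exact ⟨fun k => (i k : ℤ), fun k => by rw [zpow_natCast, hi]⟩

variable {D : ChevalleyDatum} (C : Full D) {K : Type*} [Field K]

/-- a monomial element conjugating powers of a torus element gives an eigenvector -/
theorem eigen_of_conj {Y : GL D.Idx K} {π' : Equiv.Perm (Fin D.nroots)} (hπ : C.G.NPerm Y π')
    {v : Fin D.rank → Kˣ} {δ : Kˣ} {ℓ : ℕ} (hδ : IsPrimitiveRoot δ ℓ) {z : Fin D.rank → ℤ}
    (hz : ∀ k, v k = δ ^ z k) {μ : ℕ}
    (h : Y * C.G.tor (fun k => v k ^ μ) = C.G.tor v * Y) :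
    red (ZMod ℓ) (wm C π') *ᵥ (fun k => (z k : ZMod ℓ)) = (μ : ZMod ℓ) • fun k => (z k : ZMod ℓ) := by
  have := (system_iff hδ (wm C π') z (μ : ℤ)).1 fun j => by
    simp only [← hz]
    rw [← chi_perm_simp C v π' j, chi_of_conj C hπ h, C.G.rho_simp, C.G.chi_single, zpow_natCast]
  simpa using this

/-- elements conjugating regular elements to one another are monomial -/
theorem monomial_of_regular {Y : GL D.Idx K} (hY : Y ∈ D.group K) {a v : Fin D.rank → Kˣ}
    (ha : C.G.tor a ∈ D.diagonalSubgroup K) (hv : C.G.tor v ∈ D.diagonalSubgroup K) (hreg : Reg C v)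
    (h : Y * C.G.tor a = C.G.tor v * Y) :
    Y ∈ D.monomialSubgroup K ∧ ∃ π' ∈ C.G.Wg, C.G.NPerm Y π' := by
  obtain ⟨w, hw, n, hn, π', hπ', u, hu, hgn, hnv, hbw, hau⟩ := twist C hY ha hv h
  have hra : Reg C a := fun s => by
    rw [← chi_of_conj C hπ' hnv]
    exact hreg _
  rw [reg_posUnipotent C hreg hw hbw, reg_posUnipotent C hra hu hau, one_mul, mul_one] at hgn
  rw [hgn]
  exact ⟨hn, π', mem_Wg_of_monomial C hn hπ', hπ'⟩

end CfsgLib.Lie.CoxE6
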