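import Cfsg.Agent.Lib.Lie.Chev.CoxE6Torus.Stab
import Cfsg.Agent.Lib.Lie.Chev.CoxE6Torus.Adjoint
import Cfsg.Agent.Lib.Lie.Chev.CoxE6Torus.Twist
import Cfsg.Agent.Lib.Lie.Chev.SimpleMod.Inst
import Cfsg.Agent.Lib.Rep.CurtisRichen.Rational

/-!
# The maximal torus of type `Φ₁₂Φ₃` of `E₆(q)`

Regular elements of prime order dividing `Φ₁₂(q)` are conjugate to their `q`-th powers; the torus is
read over the extension of degree 36 and compared with the group extended by diagonal automorphisms.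
-/

set_option autoImplicit false
set_option maxRecDepth 100000
set_option maxHeartbeats 6000000

namespace CfsgLib.Lie.CoxE6

open Cfsg.Lie CfsgLib.Lie.Chev CfsgLib.Lie.CoxTorus CfsgLib.Lie.Homocyclic
open scoped MatrixGroups Matrix
open Polynomial

variable {F : Type*} [Field F] [Fintype F]

theorem act_mul {G : Type*} [CommGroup G] {l : ℕ} (A B : Matrix (Fin l) (Fin l) ℤ) (u : Fin l → G)
    (i : Fin l) : ∏ k, u k ^ (A * B) i k = ∏ j, (∏ k, u k ^ B j k) ^ A i j := by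
  simp only [Matrix.mul_apply, prod_zpow_sum, ← Finset.prod_zpow, ← zpow_mul]
  rw [Finset.prod_comm]
  refine Finset.prod_congr rfl fun j _ => Finset.prod_congr rfl fun k _ => ?_
  rw [mul_comm]

theorem not_dvd_deg {ℓ : ℕ} (hℓ : ℓ.Prime) (h7 : 7 ≤ ℓ) :
    ∀ i : Fin chevE6.rank, ¬ ℓ ∣ vecOfList [2, 5, 6, 8, 9, 12] i := by
  have key : ∀ i : Fin chevE6.rank, ∀ x < 13, 7 ≤ x → Nat.Prime x →
      ¬ x ∣ vecOfList [2, 5, 6, 8, 9, 12] i := by decide +kernel
  have hle : ∀ i : Fin chevE6.rank, 0 < vecOfList [2, 5, 6, 8, 9, 12] i ∧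
      vecOfList [2, 5, 6, 8, 9, 12] i < 13 := by decide +kernel
  intro i hd
  exact key i ℓ (lt_of_le_of_lt (Nat.le_of_dvd (hle i).1 hd) (hle i).2) h7 hℓ hd

theorem not_dvd_weyl {ℓ : ℕ} (hℓ : ℓ.Prime) (h7 : 7 ≤ ℓ) : ¬ ℓ ∣ Nat.card cE6.G.Wg := by
  classical
  rw [Nat.card_eq_fintype_card]
  exact cast_dvd_prime cE6 hℓ (not_dvd_deg hℓ h7) degE6

/-- a prime with `q` of order twelve -/
theorem exists_r (q : ℕ) (hq : 2 ≤ q) :
    ∃ r : ℕ, r.Prime ∧ 13 ≤ r ∧ IsPrimitiveRoot (q : ZMod r) 12 := by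
  have h4 : q ^ 2 ≤ q ^ 4 := Nat.pow_le_pow_right (by omega) (by norm_num)
  have hev : (cyclotomic 12 ℤ).eval (q : ℤ) = ((q ^ 4 - q ^ 2 + 1 : ℕ) : ℤ) := by
    rw [f12_eq, f12]
    push_cast [h4]
    simp
  have hlt : q ^ 2 < q ^ 4 := Nat.pow_lt_pow_right (by omega) (by norm_num)
  obtain ⟨r, hr, hrd⟩ := Nat.exists_prime_and_dvd (show q ^ 4 - q ^ 2 + 1 ≠ 1 by omega)
  have h12 : ¬ r ∣ 12 := by
    intro hd
    have h1 : ((q ^ 4 - q ^ 2 + 1 : ℕ) : ZMod r) = 0 := (ZMod.natCast_eq_zero_iff _ _).2 hrd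
    push_cast [h4] at h1
    rcases (Nat.Prime.dvd_mul hr).1 (show r ∣ 4 * 3 from hd) with h | h
    · obtain rfl := (Nat.prime_dvd_prime_iff_eq hr Nat.prime_two).1 (hr.dvd_of_dvd_pow (show r ∣ 2 ^ 2 from h))
      generalize (q : ZMod 2) = x at h1
      revert x; decide
    · obtain rfl := (Nat.prime_dvd_prime_iff_eq hr Nat.prime_three).1 h
      generalize (q : ZMod 3) = x at h1
      revert x; decide
  obtain ⟨hprim, hd⟩ := primitive_of_dvd_eval hr h12 (q := q)
    (by rw [hev]; exact Int.natCast_dvd_natCast.2 hrd)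
  refine ⟨r, hr, ?_, hprim⟩
  have := Nat.le_of_dvd (by have := hr.two_le; omega) hd
  omega

theorem mod_two : ∀ x : ZMod 2, (x ^ 4 - x ^ 2 + 1) * (x ^ 2 + x + 1) ≠ 0 := by decide

theorem cofactor_dvd :
    f3 ∣ (∏ t ∈ (12 : ℕ).divisors.erase 12, cyclotomic t ℤ) ^ f3.natDegree ∧
      f12 ∣ (∏ t ∈ (12 : ℕ).divisors.erase 3, cyclotomic t ℤ) ^ f12.natDegree := by
  refine ⟨?_, ?_⟩
  · rw [f3_deg, ← f3_eq]
    have h : (3 : ℕ) ∈ (12 : ℕ).divisors.erase 12 := by simp
    exact (Finset.dvd_prod_of_mem (fun t => cyclotomic t ℤ) h).trans (dvd_pow_self _ two_ne_zero)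
  · rw [f12_deg, ← f12_eq]
    have h : (12 : ℕ) ∈ (12 : ℕ).divisors.erase 3 := by simp
    exact (Finset.dvd_prod_of_mem (fun t => cyclotomic t ℤ) h).trans (dvd_pow_self _ four_ne_zero)

theorem exists_torus :
    ∃ H : Subgroup ↥(chevE6.group F), IsCyclic ↥H ∧
      Nat.card ↥H * Nat.gcd 3 (Fintype.card F - 1) =
        (Fintype.card F ^ 4 - Fintype.card F ^ 2 + 1) *
          (Fintype.card F ^ 2 + Fintype.card F + 1) ∧
      Subgroup.centralizer (H : Set ↥(chevE6.group F)) = H := by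
  classical
  set q := Fintype.card F with hq
  have hq2 : 2 ≤ q := Fintype.one_lt_card
  set C := cE6
  obtain ⟨r, hr, h13, hprim⟩ := exists_r q hq2
  haveI := Fact.mk hr
  obtain ⟨p, hp⟩ := CharP.exists F
  haveI : Fact p.Prime := ⟨CharP.char_is_prime F p⟩
  have hrq : ¬ r ∣ q := fun h => hprim.ne_zero (by norm_num) ((ZMod.natCast_eq_zero_iff _ _).2 h)
  have hpq : p ∣ q := by
    rw [← CharP.cast_eq_zero_iff F p, hq, FiniteField.cast_card_eq_zero]
  have hrW : ¬ r ∣ Nat.card C.G.Wg := not_dvd_weyl hr (by omega)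
  haveI : Finite (GL chevE6.Idx F) := inferInstance
  -- an element of order `r`, and the conjugacy of the subgroups of order `r`
  have hrG : r ∣ Nat.card ↥(chevE6.group F) := by
    have h1 := C.order_formula (K := F) kerE6 kerE6_ok
    rw [degE6] at h1
    have h2 := congrArg (Int.cast : ℤ → ZMod r) h1
    push_cast at h2
    rw [Finset.prod_eq_zero (Finset.mem_univ (⟨5, by decide +kernel⟩ : Fin chevE6.rank)) (by
      show ((q : ℕ) : ZMod r) ^ 12 - 1 = 0
      rw [hprim.pow_eq_one, sub_self]), mul_zero] at h2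
    rw [← ZMod.natCast_eq_zero_iff]
    refine (mul_eq_zero.1 h2).resolve_left fun h => ?_
    rw [← Nat.cast_pow, ZMod.natCast_eq_zero_iff] at h
    have := Nat.le_of_dvd (show 0 < kerE6.d by decide) ((hr.dvd_of_dvd_pow h).trans (Nat.gcd_dvd_left _ _))
    have h3 : kerE6.d = 3 := rfl
    omega
  have hsyl : ∀ P : Sylow r ↥(chevE6.group F), IsCyclic ↥(P : Subgroup ↥(chevE6.group F)) := by
    intro P
    have hrL : ¬ r ∣ [2, 5, 6, 8, 9, 12].prod := by
      intro h
      rcases (Nat.Prime.dvd_mul hr).1 (show r ∣ 2 ^ 6 * (3 ^ 4 * 5) * 2 from h.trans (by norm_num)) with h | h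
      · rcases (Nat.Prime.dvd_mul hr).1 h with h | h
        · have := Nat.le_of_dvd (by norm_num) (hr.dvd_of_dvd_pow h); omega
        · rcases (Nat.Prime.dvd_mul hr).1 h with h | h
          · have := Nat.le_of_dvd (by norm_num) (hr.dvd_of_dvd_pow h); omega
          · have := Nat.le_of_dvd (by norm_num) h; omega
      · have := Nat.le_of_dvd (by norm_num) h; omega
    obtain ⟨e⟩ := assemble cE6 kerE6_ok [2, 5, 6, 8, 9, 12] degE6 (by decide +kernel) (by decide +kernel)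
      (by decide +kernel) (by decide +kernel) excE6 (by decide +kernel) (by decide +kernel) hq.symm r
      hrq hrL hrG P
    rw [show orderOf (q : ZMod r) = 12 from hprim.eq_orderOf.symm] at e
    let e' : ↥(P : Subgroup ↥(chevE6.group F)) ≃* Multiplicative (ZMod (r ^ padicValNat r
        ((cyclotomic 12 ℤ).eval (q : ℤ)).natAbs)) :=
      e.trans (MulEquiv.funUnique (Fin 1) _)
    exact isCyclic_of_surjective e'.symm e'.symm.surjective
  obtain ⟨x₀, hx₀⟩ := exists_prime_orderOf_dvd_card' r hrG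
  have hrp : r ≠ p := fun h => hrq (h ▸ hpq)
  -- rationality
  obtain ⟨kq, hkq⟩ : ∃ kq, kq * x₀ * kq⁻¹ = x₀ ^ q := by
    refine isConj_iff.1 ?_
    let R := SimpleMod.rankOne C (K := F) p
    let k := AlgebraicClosure (ZMod p)
    haveI : Finite (↥R.T →* k) := by
      haveI : Finite {c : k // c ^ Nat.card ↥R.T = 1} :=
        Finite.of_equiv _ (Equiv.subtypeEquivRight (p := fun c => c ∈ (nthRootsFinset (Nat.card ↥R.T) (1 : k)))
          fun c => by rw [mem_nthRootsFinset Nat.card_pos])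
      refine Finite.of_injective (fun f : ↥R.T →* k => fun t => (⟨f t, by
        rw [← map_pow, pow_card_eq_one', map_one]⟩ : {c : k // c ^ Nat.card ↥R.T = 1})) ?_
      intro f g h
      exact MonoidHom.ext fun t => congrArg Subtype.val (congrFun h t)
    refine R.isConj_pow_card (k := k) (SimpleMod.cellSys C (K := F) p) (fun t ht => ?_) ?_
    · have ht' : (t : GL chevE6.Idx F) ∈ (C.G.torθ (K := F)).range :=
        C.G.diagonal_eq_range (K := F) ▸ ht
      obtain ⟨c', hc'⟩ := ht'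
      refine Subtype.ext ?_
      rw [Subgroup.coe_pow, ← hc', ← map_pow, show c' ^ (Fintype.card F - 1) = 1 from funext fun i => by
        rw [Pi.pow_apply, ← Fintype.card_units]; exact pow_card_eq_one, map_one]
      rfl
    · rw [hx₀]
      exact (Nat.coprime_primes hr Fact.out).2 hrp
  -- the extension of degree 36
  let K := FiniteField.Extension F p 36
  letI : Fintype K := Fintype.ofFinite K
  have hcardK : Fintype.card K = q ^ 36 := by
    rw [Fintype.card_eq_nat_card, FiniteField.natCard_extension, hq, Fintype.card_eq_nat_card]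
  have hcardU : Nat.card Kˣ = q ^ 36 - 1 := by
    rw [Nat.card_units, ← Fintype.card_eq_nat_card, hcardK]
  have hq12 : 1 ≤ q ^ 12 := Nat.one_le_pow _ _ (by omega)
  have hsmall : ∀ n : ℕ, n ∣ q ^ 12 - 1 → ¬ 3 ∣ n ∨ 3 * n ∣ Nat.card Kˣ := by
    intro n hn
    refine or_iff_not_imp_left.2 fun h3 => ?_
    have hgs : q ^ 36 - 1 = (1 + q ^ 12 + (q ^ 12) ^ 2) * (q ^ 12 - 1) := by
      zify [hq12, Nat.one_le_pow 36 q (by omega)]
      ring
    rw [hcardU, hgs]
    refine mul_dvd_mul ?_ hn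
    have h3' : 3 ∣ q ^ 12 - 1 := (not_not.1 h3).trans hn
    rw [← ZMod.natCast_eq_zero_iff] at h3' ⊢
    push_cast [hq12] at h3' ⊢
    rw [sub_eq_zero.1 h3']
    decide
  let ι : F →+* K := algebraMap F K
  let σ : K →+* K := (FiniteField.Extension.frob F p 36).toRingEquiv.toRingHom
  have hσ : ∀ a : K, σ a = a ^ q := fun a => by
    rw [hq, Fintype.card_eq_nat_card]
    exact FiniteField.Extension.frob_apply F p 36
  have hσι : σ.comp ι = ι := RingHom.ext fun a => (FiniteField.Extension.frob F p 36).commutes a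
  have hfix : ∀ a, σ a = a → ∃ b, ι b = a := fun a ha => by
    haveI : IsGalois F K := inferInstance
    show a ∈ Set.range (algebraMap F K)
    rw [IsGalois.mem_range_algebraMap_iff_fixed]
    intro g
    obtain ⟨i, -, rfl⟩ := FiniteField.Extension.exists_frob_pow_eq F p 36 g
    induction i with
    | zero => rfl
    | succ i ih => rw [pow_succ', AlgEquiv.mul_apply, ih]; exact ha
  have hσtor : ∀ u : Fin chevE6.rank → Kˣ, fmap chevE6 σ (C.G.tor u) = C.G.tor (u ^ q) := fun u => by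
    rw [C.G.fmap_tor]
    exact congrArg _ (funext fun i => Units.ext (by simpa using hσ (u i : K)))
  have hσfix : ∀ g : GL chevE6.Idx F, fmap chevE6 σ (fmap chevE6 ι g) = fmap chevE6 ι g := fun g => by
    rw [fmap_fmap, hσι]
  have hιtor : ∀ d : Fin chevE6.rank → Fˣ, fmap chevE6 ι (C.G.tor d) ∈ chevE6.diagonalSubgroup K := by
    intro d
    rw [C.G.fmap_tor]
    refine mem_of_pow_eq_one (n := q - 1) (by omega)
      (hsmall _ (by simpa using Nat.sub_dvd_pow_sub_pow q 1 12)) (funext fun i => ?_)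
    show (Units.map (ι : F →* K) (d i)) ^ (q - 1) = 1
    rw [← map_pow, show d i ^ (q - 1) = 1 from by
      rw [hq, ← Fintype.card_units]; exact pow_card_eq_one, map_one]
  -- conjugation into the diagonal subgroup
  have hQ : (Fintype.card K : ZMod r) = 1 := by
    rw [hcardK, Nat.cast_pow, show 36 = 12 * 3 from rfl, pow_mul, hprim.pow_eq_one, one_pow]
  have hrd : ¬ r ∣ kerE6.d := fun h => by
    have := Nat.le_of_dvd (by decide) h
    have h3 : kerE6.d = 3 := rfl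
    omega
  have hx₀P : IsPGroup r (Subgroup.zpowers x₀) :=
    IsPGroup.of_card (n := 1) (by rw [Nat.card_zpowers, hx₀, pow_one])
  let φ : ↥(Subgroup.zpowers x₀) →* ↥(chevE6.group K) :=
    ((fmap chevE6 ι).comp ((chevE6.group F).subtype.comp (Subgroup.zpowers x₀).subtype)).codRestrict _
      fun g => C.G.fmap_mem_group ι g.1.2
  obtain ⟨c, hc, hdiag⟩ := exists_conj_diag_subgroup C kerE6_ok degE6 hrd (not_dvd_deg hr (by omega))
    hQ hx₀P φ
  let ψ₀ : GL chevE6.Idx F →* GL chevE6.Idx K := (MulAut.conj c⁻¹).toMonoidHom.comp (fmap chevE6 ι)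
  have hψ₀ : ∀ g, ψ₀ g = c⁻¹ * fmap chevE6 ι g * c := fun g => by simp [ψ₀]
  have hψinj : Function.Injective ψ₀ := fun a b hab => by
    rw [hψ₀, hψ₀, mul_left_inj, mul_right_inj] at hab
    exact fmap_injective ι hab
  have hψmem : ∀ (g : ↥(chevE6.group F)) (d : Fin chevE6.rank → Fˣ),
      ψ₀ ((g : GL chevE6.Idx F) * C.G.tor d) ∈ chevE6.group K := fun g d => by
    rw [hψ₀, map_mul]
    exact mul_mem (mul_mem (inv_mem hc) (mul_mem (C.G.fmap_mem_group ι g.2)
      (C.G.diagonal_le_group (hιtor d)))) hc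
  have hψmem' : ∀ g : ↥(chevE6.group F), ψ₀ (g : GL chevE6.Idx F) ∈ chevE6.group K := fun g => by
    simpa using hψmem g 1
  set m := c⁻¹ * fmap chevE6 σ c with hm
  have hmG : m ∈ chevE6.group K := mul_mem (inv_mem hc) (C.G.fmap_mem_group σ hc)
  have hψσ : ∀ g, fmap chevE6 σ (ψ₀ g) = m⁻¹ * ψ₀ g * m := fun g => by
    rw [hψ₀, map_mul, map_mul, map_inv, hσfix, hm]
    group
  obtain ⟨v, hv⟩ := C.G.exists_tor (hdiag ⟨x₀, Subgroup.mem_zpowers x₀⟩)
  replace hv : ψ₀ (x₀ : GL chevE6.Idx F) = C.G.tor v := by rw [hψ₀]; exact hv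
  have hvd : C.G.tor v ∈ chevE6.diagonalSubgroup K := by
    rw [← hv, hψ₀]
    exact hdiag ⟨x₀, Subgroup.mem_zpowers x₀⟩
  have hvr : v ^ r = 1 := by
    refine C.G.tor_eq_one ?_
    rw [map_pow, ← hv, ← map_pow, ← Subgroup.coe_pow, ← hx₀, pow_orderOf_eq_one, Subgroup.coe_one,
      map_one]
  have hv1 : v ≠ 1 := by
    rintro rfl
    rw [map_one, ← map_one ψ₀, hψinj.eq_iff, OneMemClass.coe_eq_one] at hv
    rw [hv, orderOf_one] at hx₀
    exact hr.one_lt.ne hx₀
  obtain ⟨γ, hγ'⟩ : ∃ γ : Kˣ, orderOf γ = r := by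
    refine exists_prime_orderOf_dvd_card' r ?_
    rw [hcardU, ← ZMod.natCast_eq_zero_iff, Nat.cast_sub (Nat.one_le_pow _ _ (by omega)), Nat.cast_one,
      ← hcardK, hQ, sub_self]
  have hγ : IsPrimitiveRoot γ r := hγ' ▸ IsPrimitiveRoot.orderOf γ
  haveI : NeZero r := ⟨hr.ne_zero⟩
  obtain ⟨z, hz⟩ := exists_exponents hγ hvr
  set e := fun k => (z k : ZMod r)
  have he : e ≠ 0 := fun h0 => hv1 (funext fun k => by
    rw [hz, Pi.one_apply, hγ.zpow_eq_one_iff_dvd]
    exact (ZMod.intCast_zmod_eq_zero_iff_dvd _ _).1 (congrFun h0 k))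
  -- the twisting element
  have hmv : m * C.G.tor (fun k => v k ^ q) = C.G.tor v * m := by
    rw [show (fun k => v k ^ q) = v ^ q from rfl, ← hσtor, ← hv, hψσ]
    group
  have hvq : C.G.tor (fun k => v k ^ q) ∈ chevE6.diagonalSubgroup K := by
    rw [show (fun k => v k ^ q) = v ^ q from rfl, map_pow]; exact pow_mem hvd q
  obtain ⟨w, hw, n, hn, π, hπ, u₁, hu₁, hmn, hnv, hbw, hau⟩ := twist C hmG hvq hvd hmv
  have hπW := mem_Wg_of_monomial C hn hπ
  set N := wm C π with hNdef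
  have hev : red (ZMod r) N *ᵥ e = (q : ZMod r) • e := eigen_of_conj C hπ hγ hz hnv
  have hN : N.charpoly = f12 * f3 := charpoly_eq hπW hrW e he hprim hev
  have hreg : Reg C v := fun s hs => by
    rw [chi_pow C v hz, hγ.zpow_eq_one_iff_dvd, ← ZMod.intCast_zmod_eq_zero_iff_dvd] at hs
    refine regular hπW hN hev he hprim h13 s (Eq.trans ?_ hs)
    simp [dotProduct, e, C]
  have hregq : Reg C (fun k => v k ^ q) := fun s => by
    rw [← chi_of_conj C hπ hnv]
    exact hreg _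
  rw [reg_posUnipotent C hreg hw hbw, reg_posUnipotent C hregq hu₁ hau, one_mul, mul_one] at hmn
  rw [← hmn] at hn hπ
  clear hnv hbw hau
  -- elements centralising `x₀`
  have hmono : ∀ (g : ↥(chevE6.group F)) (d : Fin chevE6.rank → Fˣ) (j : ℕ),
      ψ₀ ((g : GL chevE6.Idx F) * C.G.tor d) * C.G.tor (fun k => v k ^ j) =
        C.G.tor v * ψ₀ ((g : GL chevE6.Idx F) * C.G.tor d) →
      ψ₀ ((g : GL chevE6.Idx F) * C.G.tor d) ∈ chevE6.monomialSubgroup K ∧
        ∃ π' ∈ C.G.Wg, C.G.NPerm (ψ₀ ((g : GL chevE6.Idx F) * C.G.tor d)) π' ∧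
          Commute N (wm C π') ∧ red (ZMod r) (wm C π') *ᵥ e = (j : ZMod r) • e := by
    intro g d j h
    set Y := ψ₀ ((g : GL chevE6.Idx F) * C.G.tor d) with hY
    have hvj : C.G.tor (fun k => v k ^ j) ∈ chevE6.diagonalSubgroup K := by
      rw [show (fun k => v k ^ j) = v ^ j from rfl, map_pow]; exact pow_mem hvd j
    obtain ⟨hYm, π', hπW', hπ'⟩ := monomial_of_regular C (hψmem g d) hvj hvd hreg h
    refine ⟨hYm, π', hπW', hπ', ?_, eigen_of_conj C hπ' hγ hz h⟩
    have h2 := nPerm_fmap C σ hYm hπ'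
    rw [hψσ] at h2
    have h3 := Good.NPerm.unique C.G
      (Good.NPerm.mul C.G (Good.NPerm.mul C.G (Good.NPerm.inv C.G hπ) hπ') hπ) h2
    rw [Commute, SemiconjBy, hNdef, ← wm_mul C hπW', ← wm_mul C hπW]
    rw [mul_assoc, inv_mul_eq_iff_eq_mul] at h3
    rw [h3]
  have hstab : ∀ π' ∈ C.G.Wg, Commute N (wm C π') → red (ZMod r) (wm C π') *ᵥ e = e →
      aeval N f3 * (wm C π' - 1) = 0 := fun π' hπ' hc' hfix' =>
    fixed_f3 hπW hN he hev hrW (wm_pow_natCard hπ') hc' hfix' (f3_at_twelve hprim)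
  -- the equations of the torus
  let U : Subgroup (Fin chevE6.rank → Kˣ) :=
    ((MulAut.conj m).toMonoidHom.comp ((C.G.tor).comp (powMonoidHom q))).eqLocus C.G.tor
  have hU : ∀ u, u ∈ U ↔ m * C.G.tor (u ^ q) = C.G.tor u * m := fun u => by
    show MulAut.conj m (C.G.tor (u ^ q)) = C.G.tor u ↔ _
    rw [MulAut.conj_apply, mul_inv_eq_iff_eq_mul]
  set R := (q : ℤ) • (1 : Matrix (Fin chevE6.rank) (Fin chevE6.rank) ℤ) - N with hR
  have hsys : ∀ u : Fin chevE6.rank → Kˣ,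
      (∀ j, ∏ k, u k ^ ((q : ℤ) • (1 : Matrix (Fin chevE6.rank) (Fin chevE6.rank) ℤ) - N) j k = 1) ↔
      u ∈ U := by
    intro u
    rw [hU]
    simp only [prod_zpow_sub]
    constructor
    · intro hu
      exact conj_of_chi C hn hπ fun j => by
        rw [chi_perm_simp, ← hNdef, hu j, zpow_natCast]; rfl
    · intro hu j
      rw [hNdef, ← chi_perm_simp C u π j, chi_of_conj C hπ hu, C.G.rho_simp, C.G.chi_single,
        zpow_natCast]
      rfl
  have hN12 := pow_twelve hN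
  have hcomm : Commute ((q : ℤ) • (1 : Matrix (Fin chevE6.rank) (Fin chevE6.rank) ℤ)) N :=
    (Commute.one_left N).smul_left _
  have hUpow : ∀ u ∈ U, u ^ (q ^ 12 - 1) = 1 := by
    intro u hu
    funext i
    have h1 := (hsys u).2 hu
    set B := ∑ t ∈ Finset.range 12,
      ((q : ℤ) • (1 : Matrix (Fin chevE6.rank) (Fin chevE6.rank) ℤ)) ^ t * N ^ (12 - 1 - t)
    have h2 : B * R = ((q ^ 12 - 1 : ℕ) : ℤ) • 1 := by
      rw [hR, hcomm.geom_sum₂_mul, hN12, _root_.smul_pow, one_pow, Nat.cast_sub hq12, sub_smul,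
        Nat.cast_pow, Nat.cast_one, one_smul]
    have h3 := act_mul B R u i
    have h4 : ∏ j, (∏ k, u k ^ R j k) ^ B i j = 1 :=
      Finset.prod_eq_one fun j _ => by rw [show ∏ k, u k ^ R j k = 1 from h1 j, one_zpow]
    rw [h4, h2] at h3
    rw [Finset.prod_eq_single i (fun k _ hk => by simp [Matrix.one_apply, Ne.symm hk])
      (fun h => absurd (Finset.mem_univ i) h), Matrix.smul_apply, Matrix.one_apply_eq, smul_eq_mul,
      mul_one, zpow_natCast] at h3
    exact h3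
  have hUd : ∀ u ∈ U, C.G.tor u ∈ chevE6.diagonalSubgroup K := fun u hu =>
    mem_of_pow_eq_one (n := q ^ 12 - 1)
      (by have := Nat.one_lt_pow (n := 12) (by norm_num) (show 1 < q by omega); omega)
      (hsmall _ dvd_rfl) (hUpow u hu)
  -- the map to the characters of the group over `F`
  have hlift : ∀ u : U, ∃ x : ↥(chevE6.group F) × (Fin chevE6.rank → Fˣ),
      ψ₀ ((x.1 : GL chevE6.Idx F) * C.G.tor x.2) = C.G.tor u.1 := by
    rintro ⟨u, hu⟩
    have hy : c * C.G.tor u * c⁻¹ ∈ chevE6.group K :=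
      mul_mem (mul_mem hc (C.G.diagonal_le_group (hUd u hu))) (inv_mem hc)
    have hyσ : fmap chevE6 σ (c * C.G.tor u * c⁻¹) = c * C.G.tor u * c⁻¹ := by
      rw [map_mul, map_mul, map_inv, hσtor,
        show fmap chevE6 σ c = c * m by rw [hm, mul_inv_cancel_left], mul_inv_rev, mul_assoc c m,
        (hU u).1 hu]
      group
    obtain ⟨g₀, hg₀, d, hd⟩ := fixed_adjoint C σ ι hfix hy hyσ
    refine ⟨(⟨g₀, hg₀⟩, d), ?_⟩
    show ψ₀ (g₀ * C.G.tor d) = C.G.tor u
    rw [hψ₀, hd]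
    group
  choose L hL using hlift
  have huniq : ∀ (g g' : ↥(chevE6.group F)) (d d' : Fin chevE6.rank → Fˣ),
      (g : GL chevE6.Idx F) * C.G.tor d = (g' : GL chevE6.Idx F) * C.G.tor d' →
      (QuotientGroup.mk d : (Fin chevE6.rank → Fˣ) ⧸ dTor C (K := F)) = QuotientGroup.mk d' := by
    intro g g' d d' h
    rw [QuotientGroup.eq_iff_div_mem, mem_dTor_iff, div_eq_mul_inv, map_mul, map_inv,
      show C.G.tor d * (C.G.tor d')⁻¹ = (g : GL chevE6.Idx F)⁻¹ * g' by
        rw [eq_inv_mul_iff_mul_eq, ← mul_assoc, h, mul_inv_cancel_right]]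
    exact mul_mem (inv_mem g.2) g'.2
  let α : U →* (Fin chevE6.rank → Fˣ) ⧸ dTor C (K := F) :=
    MonoidHom.mk' (fun u => QuotientGroup.mk (L u).2) fun a b => by
      rw [← QuotientGroup.mk_mul]
      refine huniq (L (a * b)).1
        ((L a).1 * ⟨C.G.tor (L a).2 * ((L b).1 : GL chevE6.Idx F) * (C.G.tor (L a).2)⁻¹,
          C.G.tor_conj_mem _ (L b).1.2⟩) _ _ (hψinj ?_)
      rw [hL (a * b), Subgroup.coe_mul, map_mul, ← hL a, ← hL b, ← map_mul]
      congr 1
      rw [Subgroup.coe_mul, map_mul]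
      group
  have hmemU : ∀ (g : GL chevE6.Idx F) (u : Fin chevE6.rank → Kˣ), ψ₀ g = C.G.tor u → u ∈ U := by
    intro g u h
    rw [hU]
    have h1 := hψσ g
    rw [h, hσtor] at h1
    rw [h1]
    group
  have hαval : ∀ (g : ↥(chevE6.group F)) (d : Fin chevE6.rank → Fˣ) (u : U),
      ψ₀ ((g : GL chevE6.Idx F) * C.G.tor d) = C.G.tor u.1 → α u = QuotientGroup.mk d :=
    fun g d u h => huniq _ _ _ _ (hψinj ((hL u).trans h.symm))
  -- every class is obtained from an element centralising `x₀`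
  have hsurj : Function.Surjective α := by
    refine fun Q => QuotientGroup.induction_on Q fun d => ?_
    set x₁ : ↥(chevE6.group F) := ⟨C.G.tor d⁻¹ * (x₀ : GL chevE6.Idx F) * (C.G.tor d⁻¹)⁻¹,
      C.G.tor_conj_mem _ x₀.2⟩
    have hx₁ : orderOf x₁ = r := by
      rw [← Subgroup.orderOf_coe x₁, ← hx₀, ← Subgroup.orderOf_coe x₀]
      exact MulEquiv.orderOf_eq (MulAut.conj (C.G.tor d⁻¹)) _
    obtain ⟨k, j, hkj⟩ := exists_conj_pow hsyl hx₀ hx₁
    -- normal form `g * tor d`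
    have hnf : ∀ k' : ↥(chevE6.group F), ∃ g : ↥(chevE6.group F),
        (g : GL chevE6.Idx F) * C.G.tor d = C.G.tor d * (k' : GL chevE6.Idx F) := fun k' =>
      ⟨⟨_, C.G.tor_conj_mem d k'.2⟩, by simp⟩
    have hx₁' : C.G.tor d * (x₁ : GL chevE6.Idx F) = (x₀ : GL chevE6.Idx F) * C.G.tor d := by
      show C.G.tor d * (C.G.tor d⁻¹ * (x₀ : GL chevE6.Idx F) * (C.G.tor d⁻¹)⁻¹) = _
      rw [map_inv, inv_inv]
      group
    have hb : ∀ (k' : ↥(chevE6.group F)) (i : ℕ), k'⁻¹ * x₁ * k' = x₀ ^ i →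
        ψ₀ (C.G.tor d * (k' : GL chevE6.Idx F)) * C.G.tor (fun l => v l ^ i) =
          C.G.tor v * ψ₀ (C.G.tor d * (k' : GL chevE6.Idx F)) := by
      intro k' i h
      rw [show (fun l => v l ^ i) = v ^ i from rfl, map_pow, ← hv, ← map_pow, ← map_mul, ← map_mul,
        ← Subgroup.coe_pow, ← h]
      congr 1
      push_cast
      calc C.G.tor d * (k' : GL chevE6.Idx F) *
            ((k' : GL chevE6.Idx F)⁻¹ * (x₁ : GL chevE6.Idx F) * (k' : GL chevE6.Idx F))
          = C.G.tor d * (x₁ : GL chevE6.Idx F) * (k' : GL chevE6.Idx F) := by group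
        _ = _ := by rw [hx₁', mul_assoc]
    obtain ⟨g₁, hg₁⟩ := hnf k
    obtain ⟨-, π₁, hπ₁, -, -, hj⟩ := hmono g₁ d j (by rw [hg₁]; exact hb k j hkj)
    have hj12 := eigen_scalar hπW hrW he hprim hev hπ₁ hj
    obtain ⟨i, -, hi⟩ := hprim.eq_pow_of_pow_eq_one hj12
    have hkqi : ∀ i : ℕ, kq ^ i * x₀ * (kq ^ i)⁻¹ = x₀ ^ (q ^ i) := by
      intro i
      induction i with
      | zero => simp
      | succ i ih =>
        rw [pow_succ' kq, pow_succ' q, pow_mul, ← hkq, conj_pow, ← ih]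
        group
    have hji : x₀ ^ j = x₀ ^ (q ^ i) := by
      rw [pow_eq_pow_iff_modEq, hx₀, ← ZMod.natCast_eq_natCast_iff, Nat.cast_pow, hi]
    have hk2 : (k * kq ^ i)⁻¹ * x₁ * (k * kq ^ i) = x₀ ^ 1 := by
      rw [pow_one, show (k * kq ^ i)⁻¹ * x₁ * (k * kq ^ i) = (kq ^ i)⁻¹ * (k⁻¹ * x₁ * k) * kq ^ i by group,
        hkj, hji, ← hkqi]
      group
    obtain ⟨g, hg⟩ := hnf (k * kq ^ i)
    obtain ⟨hYm, π', hπW', hπ', hcN, hfix'⟩ := hmono g d 1 (by rw [hg]; exact hb _ 1 hk2)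
    rw [Nat.cast_one, one_smul] at hfix'
    set Y := ψ₀ ((g : GL chevE6.Idx F) * C.G.tor d)
    set o := orderOf π'
    have ho : 0 < o := orderOf_pos π'
    have hYo : Y ^ o ∈ chevE6.diagonalSubgroup K := by
      have hpow : ∀ i : ℕ, C.G.NPerm (Y ^ i) (π' ^ i) := by
        intro i
        induction i with
        | zero => rw [pow_zero, pow_zero]; exact Good.NPerm.one C.G
        | succ i ih => rw [pow_succ, pow_succ]; exact Good.NPerm.mul C.G ih hπ'
      refine C.G.mem_H_of_nPerm_one (pow_mem hYm o) ?_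
      rw [← pow_orderOf_eq_one π']
      exact hpow o
    obtain ⟨u, hu⟩ := C.G.exists_tor hYo
    have hYoval : ∀ t : ℕ, ∃ gt : ↥(chevE6.group F),
        ((g : GL chevE6.Idx F) * C.G.tor d) ^ t = (gt : GL chevE6.Idx F) * C.G.tor (d ^ t) := by
      intro t
      induction t with
      | zero => exact ⟨1, by simp⟩
      | succ t ih =>
        obtain ⟨gt, ht⟩ := ih
        refine ⟨gt * ⟨_, C.G.tor_conj_mem (d ^ t) g.2⟩, ?_⟩
        rw [pow_succ, ht, Subgroup.coe_mul, pow_succ d, map_mul]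
        group
    obtain ⟨gt, ht⟩ := hYoval o
    have hu' : ψ₀ ((gt : GL chevE6.Idx F) * C.G.tor (d ^ o)) = C.G.tor u := by
      rw [← ht, map_pow]; exact hu
    have h1 : α ⟨u, hmemU _ _ hu'⟩ = QuotientGroup.mk (d ^ o) := hαval _ _ _ hu'
    have h3 : ¬ 3 ∣ o := by
      rintro ⟨o', ho'⟩
      have hcu : wm C (π' ^ o') = 1 := by
        refine eq_one_of_cube hπW hN ?_ ?_ ?_
        · rw [wm_pow C hπW']; exact hcN.pow_right _
        · refine hstab _ (pow_mem hπW' _) ?_ ?_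
          · rw [wm_pow C hπW']; exact hcN.pow_right _
          · rw [wm_pow C hπW', map_pow,
              CfsgLib.Lie.CoxTorus.pow_mulVec_eigen (μ := 1) (by rw [one_smul]; exact hfix'), one_pow,
              one_smul]
        · rw [← wm_pow C (pow_mem hπW' _), ← pow_mul, mul_comm, ← ho', pow_orderOf_eq_one, wm_one]
      have := orderOf_dvd_of_pow_eq_one (eq_one_of_wm C (pow_mem hπW' _) hcu)
      have hle := Nat.le_of_dvd (Nat.pos_of_ne_zero fun h => by
        rw [h, mul_zero] at ho'; omega) this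
      omega
    obtain ⟨a, b, hab⟩ : IsCoprime ((3 : ℕ) : ℤ) (o : ℤ) :=
      Int.isCoprime_iff_nat_coprime.2 ((Nat.prime_three.coprime_iff_not_dvd).2 h3)
    refine ⟨⟨u, hmemU _ _ hu'⟩ ^ b, ?_⟩
    have hcube : (QuotientGroup.mk d : (Fin chevE6.rank → Fˣ) ⧸ dTor C (K := F)) ^ (3 : ℕ) = 1 := by
      rw [← QuotientGroup.mk_pow, QuotientGroup.eq_one_iff]
      exact cube_mem d
    rw [map_zpow, h1, QuotientGroup.mk_pow, ← zpow_natCast, ← zpow_mul]
    conv_rhs => rw [← zpow_one (QuotientGroup.mk d : (Fin chevE6.rank → Fˣ) ⧸ dTor C (K := F)), ← hab,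
      zpow_add, mul_comm a, zpow_mul _ ((3 : ℕ) : ℤ) a, zpow_natCast, hcube, one_zpow, one_mul, mul_comm b]
  -- the subgroup
  let S : Subgroup ↥(chevE6.group F) := (C.G.tor).range.comap (ψ₀.comp (chevE6.group F).subtype)
  have hto : ∀ g : S, ∃ u : U, ψ₀ ((g.1 : ↥(chevE6.group F)) : GL chevE6.Idx F) = C.G.tor u.1 := by
    rintro ⟨g, u, hu⟩
    exact ⟨⟨u, hmemU _ u hu.symm⟩, hu.symm⟩
  choose toU htoU using hto
  have hScomm : ∀ a ∈ S, ∀ b ∈ S, a * b = b * a := fun a ha b hb => by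
    refine Subtype.ext (hψinj ?_)
    obtain ⟨ua, hua⟩ := ha
    obtain ⟨ub, hub⟩ := hb
    change C.G.tor ua = ψ₀ (a : GL chevE6.Idx F) at hua
    change C.G.tor ub = ψ₀ (b : GL chevE6.Idx F) at hub
    rw [Subgroup.coe_mul, Subgroup.coe_mul, map_mul, map_mul, ← hua, ← hub, ← map_mul, ← map_mul,
      mul_comm]
  have htoU_inj : Function.Injective toU := fun a b hab => by
    have := htoU a
    rw [hab, ← htoU b] at this
    exact Subtype.ext (Subtype.ext (hψinj this))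
  have htoUker : ∀ g : S, toU g ∈ α.ker := fun g => by
    rw [MonoidHom.mem_ker, hαval g.1 1 (toU g) (by rw [map_one, mul_one]; exact htoU g)]
    rfl
  have hcardS : Nat.card S = Nat.card α.ker := by
    refine Nat.card_eq_of_bijective (fun g => ⟨toU g, htoUker g⟩) ⟨fun a b h =>
      htoU_inj (congrArg Subtype.val h), fun ⟨u, hu⟩ => ?_⟩
    have h1 : (L u).2 ∈ dTor C (K := F) := (QuotientGroup.eq_one_iff _).1 hu
    have h2 : ((L u).1 : GL chevE6.Idx F) * C.G.tor (L u).2 ∈ chevE6.group F :=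
      mul_mem (L u).1.2 ((mem_dTor_iff C).1 h1)
    refine ⟨⟨⟨_, h2⟩, u.1, (hL u).symm⟩, Subtype.ext (Subtype.ext ?_)⟩
    exact tor_inj C ((htoU _).symm.trans (hL u))
  -- the order
  have h4 : q ^ 2 ≤ q ^ 4 := Nat.pow_le_pow_right (by omega) (by norm_num)
  set A12 := q ^ 4 - q ^ 2 + 1
  set A3 := q ^ 2 + q + 1
  have hcardUq : Nat.card U = A12 * A3 := by
    have hRR : R * (∑ i ∈ Finset.range 36, ((q : ℤ) • (1 : Matrix (Fin chevE6.rank) (Fin chevE6.rank) ℤ)) ^ i * N ^ (36 - 1 - i)) =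
        (Nat.card Kˣ : ℤ) • 1 := by
      rw [hR, hcomm.mul_geom_sum₂, show N ^ 36 = 1 by rw [show 36 = 12 * 3 from rfl, pow_mul, hN12, one_pow],
        _root_.smul_pow, one_pow, hcardU, Nat.cast_sub (Nat.one_le_pow _ _ (by omega)), sub_smul, Nat.cast_pow,
        Nat.cast_one, one_smul]
    have hdetR : R.det = ((A12 * A3 : ℕ) : ℤ) := by
      have : R.det = N.charpoly.eval (q : ℤ) := by
        rw [hR, Matrix.eval_charpoly, Matrix.scalar_apply, ← Matrix.smul_one_eq_diagonal]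
      rw [this, hN, f12, f3]
      simp only [A12, A3]
      push_cast [h4]
      simp
    have hA : 0 < A12 * A3 := Nat.mul_pos (Nat.succ_pos _) (Nat.succ_pos _)
    rw [← Nat.card_congr (Equiv.subtypeEquivRight hsys), card_system R _ hRR (by
      rw [hdetR]; exact_mod_cast hA.ne'), hdetR, Int.natAbs_natCast]
  have horder : Nat.card S * Nat.gcd 3 (q - 1) = A12 * A3 := by
    have h1 := Subgroup.card_eq_card_quotient_mul_card_subgroup α.ker
    rw [Nat.card_congr (QuotientGroup.quotientKerEquivOfSurjective α hsurj).toEquiv,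
      ← Subgroup.index_eq_card, index_dTor C kerE6 kerE6_ok, hcardUq, ← hcardS] at h1
    rw [h1, show kerE6.d = 3 from rfl, show kerE6.k = 1 from rfl, pow_one, mul_comm]
  have hx₀S : x₀ ∈ S := ⟨v, hv.symm⟩
  -- torsion vectors
  have htors : ∀ (ℓ : ℕ), ℓ.Prime → ℓ ∣ Nat.card S → ∃ δ : Kˣ, IsPrimitiveRoot δ ℓ ∧
      ∀ a : S, a ^ ℓ = 1 → ∃ z' : Fin chevE6.rank → ℤ, (∀ k, (toU a).1 k = δ ^ z' k) ∧
        red (ZMod ℓ) N *ᵥ (fun k => (z' k : ZMod ℓ)) = (q : ZMod ℓ) • fun k => (z' k : ZMod ℓ) := by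
    intro ℓ hℓ hd
    haveI := Fact.mk hℓ
    have h1 : ℓ ∣ Nat.card Kˣ := by
      have h2 : ℓ ∣ Nat.card (Fin chevE6.rank → Kˣ) :=
        hd.trans (hcardS ▸ (Subgroup.card_subgroup_dvd_card α.ker).trans (Subgroup.card_subgroup_dvd_card U))
      rw [Nat.card_fun] at h2
      exact hℓ.dvd_of_dvd_pow h2
    obtain ⟨δ, hδ'⟩ := exists_prime_orderOf_dvd_card' ℓ h1
    have hδ : IsPrimitiveRoot δ ℓ := hδ' ▸ IsPrimitiveRoot.orderOf δ
    refine ⟨δ, hδ, fun a ha => ?_⟩
    haveI : NeZero ℓ := ⟨hℓ.ne_zero⟩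
    have h3 : (toU a).1 ^ ℓ = 1 := by
      refine C.G.tor_eq_one ?_
      rw [map_pow, ← htoU, ← map_pow, ← Subgroup.coe_pow, ← Subgroup.coe_pow, ha, Subgroup.coe_one,
        Subgroup.coe_one, map_one]
    obtain ⟨z', hz'⟩ := exists_exponents hδ h3
    exact ⟨z', hz', eigen_of_conj C hπ hδ hz' ((hU _).1 (toU a).2)⟩
  have h12c : Nat.Coprime 3 A12 := by
    rw [Nat.prime_three.coprime_iff_not_dvd, ← ZMod.natCast_eq_zero_iff]
    simp only [A12]
    push_cast [h4]
    generalize (q : ZMod 3) = x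
    revert x; decide
  have hSdvd : Nat.card S ∣ A12 * A3 := horder ▸ dvd_mul_right _ _
  refine ⟨S, ?_, horder, ?_⟩
  · refine isCyclic_of_prime_torsion (fun a b => Subtype.ext (hScomm _ a.2 _ b.2)) fun ℓ hℓ => ?_
    haveI := Fact.mk hℓ
    by_cases hdiv : ℓ ∣ Nat.card S
    swap
    · haveI : Subsingleton {a : S // a ^ ℓ = 1} := by
        refine ⟨fun a b => Subtype.ext ?_⟩
        have key : ∀ a : {a : S // a ^ ℓ = 1}, a.1 = 1 := fun a => by
          rw [← orderOf_eq_one_iff]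
          rcases (Nat.dvd_prime hℓ).1 (orderOf_dvd_of_pow_eq_one a.2) with h1 | h1
          · exact h1
          · exact absurd (h1 ▸ orderOf_dvd_natCard a.1) hdiv
        rw [key a, key b]
      exact (Finite.card_le_one_iff_subsingleton.2 inferInstance).trans hℓ.one_lt.le
    by_cases hℓ3 : ℓ = 3
    · subst hℓ3
      let P : Subgroup S :=
        { carrier := {a | a ^ 3 = 1}
          one_mem' := one_pow 3
          mul_mem' := fun {a b} ha hb => by
            show (a * b) ^ 3 = 1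
            rw [(show Commute a b from Subtype.ext (hScomm _ a.2 _ b.2)).mul_pow, ha, hb, one_mul]
          inv_mem' := fun {a} ha => by
            show a⁻¹ ^ 3 = 1
            rw [inv_pow, ha, inv_one] }
      have hP : IsPGroup 3 P := fun a => ⟨1, Subtype.ext (by rw [pow_one]; exact a.2)⟩
      obtain ⟨k, hk'⟩ := IsPGroup.iff_card.1 hP
      have hdvd := Subgroup.card_subgroup_dvd_card P
      rw [hk'] at hdvd
      have hk1 : k ≤ 1 := by
        by_contra hk2
        exact nine_not_dvd q ((Nat.Coprime.pow_left 2 h12c).dvd_of_dvd_mul_left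
          ((pow_dvd_pow 3 (by omega)).trans (hdvd.trans hSdvd)))
      calc Nat.card {a : S // a ^ 3 = 1} = Nat.card P := rfl
        _ = 3 ^ k := hk'
        _ ≤ 3 ^ 1 := Nat.pow_le_pow_right (by norm_num) hk1
        _ = 3 := pow_one 3
    obtain ⟨δ, hδ, hzz⟩ := htors ℓ hℓ hdiv
    have hd12 : ¬ ℓ ∣ 12 := by
      intro h
      rcases (Nat.Prime.dvd_mul hℓ).1 (show ℓ ∣ 4 * 3 from h) with h | h
      · obtain rfl := (Nat.prime_dvd_prime_iff_eq hℓ Nat.prime_two).1 (hℓ.dvd_of_dvd_pow (show ℓ ∣ 2 ^ 2 from h))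
        have h2 := (ZMod.natCast_eq_zero_iff _ 2).2 (hdiv.trans hSdvd)
        simp only [A12, A3] at h2
        push_cast [h4] at h2
        exact mod_two _ h2
      · exact hℓ3 ((Nat.prime_dvd_prime_iff_eq hℓ Nat.prime_three).1 h)
    -- the eigenvalue and the cofactor
    obtain ⟨d, hdn, hμ, R', hR', hR'dvd⟩ : ∃ d, d ∣ 12 ∧ IsPrimitiveRoot (q : ZMod ℓ) d ∧ ∃ R' : ℤ[X],
        N.charpoly = cyclotomic d ℤ ^ 1 * R' ∧
          R' ∣ (∏ t ∈ (12 : ℕ).divisors.erase d, cyclotomic t ℤ) ^ R'.natDegree := by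
      rcases hℓ.dvd_mul.1 (hdiv.trans hSdvd) with h | h
      · obtain ⟨hμ, -⟩ := primitive_of_dvd_eval hℓ hd12 (q := q) (by
          rw [f12_eq, f12]
          simp only [eval_add, eval_sub, eval_pow, eval_X, eval_one]
          refine (Int.natCast_dvd_natCast.2 h).trans (dvd_of_eq ?_)
          simp only [A12]; push_cast [h4]; rfl)
        exact ⟨12, dvd_rfl, hμ, f3, by rw [hN, pow_one, f12_eq], cofactor_dvd.1⟩
      · obtain ⟨hμ, -⟩ := primitive_of_dvd_eval hℓ (h := 3) (fun hd => hd12 (hd.trans (by norm_num)))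
          (q := q) (by
          rw [eval_cyclotomic_three]
          refine (Int.natCast_dvd_natCast.2 h).trans (dvd_of_eq ?_)
          simp only [A3]; push_cast; rfl)
        exact ⟨3, by norm_num, hμ, f12, by rw [hN, pow_one, f3_eq, mul_comm], cofactor_dvd.2⟩
    choose z' hz1 hz2 using fun a : {a : S // a ^ ℓ = 1} => hzz a.1 a.2
    refine le_trans ?_ ((Homocyclic.card_eigen_le (n := 12) (by norm_num) hd12 hdn N hμ hR' hR'dvd).trans
      (pow_one ℓ).le)
    refine Nat.card_le_card_of_injective (fun a => ⟨_, hz2 a⟩) fun a b hab => ?_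
    refine Subtype.ext (htoU_inj (Subtype.ext (funext fun k => ?_)))
    rw [hz1 a k, hz1 b k, ← mul_inv_eq_one, ← zpow_sub, hδ.zpow_eq_one_iff_dvd]
    exact (ZMod.intCast_eq_intCast_iff_dvd_sub _ _ _).1 (congrFun (congrArg Subtype.val hab) k).symm
  · refine le_antisymm (fun g hg => ?_) fun g hg => Subgroup.mem_centralizer_iff.2 fun b hb => hScomm b hb g hg
    have hgx : ∀ a ∈ S, ψ₀ (g : GL chevE6.Idx F) * ψ₀ (a : GL chevE6.Idx F) =
        ψ₀ (a : GL chevE6.Idx F) * ψ₀ (g : GL chevE6.Idx F) := fun a ha => by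
      rw [← map_mul, ← map_mul, ← Subgroup.coe_mul, ← Subgroup.coe_mul,
        Subgroup.mem_centralizer_iff.1 hg a ha]
    obtain ⟨hYm, π', hπW', hπ', hcN, hfix'⟩ := hmono g 1 1 (by
      simp only [pow_one, map_one, mul_one]
      rw [← hv]; exact hgx x₀ hx₀S)
    simp only [map_one, mul_one] at hYm hπ'
    rw [Nat.cast_one, one_smul] at hfix'
    obtain ⟨ℓ, hℓ, hℓd, hℓ3⟩ := exists_prime_ne (show 3 < A3 by simp only [A3]; nlinarith)
      Nat.prime_three (nine_not_dvd q)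
    haveI := Fact.mk hℓ
    obtain ⟨hμ, hℓ1⟩ := primitive_of_dvd_eval hℓ (h := 3) hℓ3 (q := q) (by
      rw [eval_cyclotomic_three]
      refine (Int.natCast_dvd_natCast.2 hℓd).trans (dvd_of_eq ?_)
      simp only [A3]; push_cast; rfl)
    have hℓ2 : ℓ ≠ 2 := fun h => by rw [h] at hℓ1; norm_num at hℓ1
    have hℓ5 : ℓ ≠ 5 := fun h => by rw [h] at hℓ1; norm_num at hℓ1
    have hℓ7 : 7 ≤ ℓ := by
      by_contra h
      have := hℓ.two_le
      interval_cases ℓ <;> first | omega | exact hℓ3 dvd_rfl | norm_num at hℓ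
    have hℓS : ℓ ∣ Nat.card S := by
      refine (hℓ.dvd_mul.1 (horder.symm ▸ hℓd.trans (dvd_mul_left A3 A12))).resolve_right fun h => ?_
      exact hℓ3 (h.trans (Nat.gcd_dvd_left _ _))
    obtain ⟨y, hy⟩ := exists_prime_orderOf_dvd_card' ℓ hℓS
    obtain ⟨δ, hδ, hzz⟩ := htors ℓ hℓ hℓS
    obtain ⟨z', hz1, hz2⟩ := hzz y (hy ▸ pow_orderOf_eq_one y)
    have he' : (fun k => (z' k : ZMod ℓ)) ≠ 0 := fun h0 => by
      have h1 : (toU y).1 = 1 := funext fun k => by
        rw [hz1, Pi.one_apply, hδ.zpow_eq_one_iff_dvd]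
        exact (ZMod.intCast_zmod_eq_zero_iff_dvd _ _).1 (congrFun h0 k)
      have h2 := htoU y
      rw [h1, map_one, ← map_one ψ₀, hψinj.eq_iff, OneMemClass.coe_eq_one, OneMemClass.coe_eq_one] at h2
      rw [h2, orderOf_one] at hy
      exact hℓ.one_lt.ne hy
    have hfix2 : red (ZMod ℓ) (wm C π') *ᵥ (fun k => (z' k : ZMod ℓ)) = fun k => (z' k : ZMod ℓ) := by
      have := eigen_of_conj C hπ' hδ hz1 (μ := 1) (by
        simp only [pow_one]
        rw [← htoU]; exact hgx _ y.2)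
      rwa [Nat.cast_one, one_smul] at this
    have h5 : wm C π' = 1 := eq_one_of_kills hN (hstab π' hπW' hcN hfix')
      (fixed_f12 hπW hN he' hz2 (not_dvd_weyl hℓ hℓ7) (wm_pow_natCard hπW') hcN hfix2
        (f12_at_three hℓ2 hμ))
    have h6 : ψ₀ (g : GL chevE6.Idx F) ∈ chevE6.diagonalSubgroup K :=
      C.G.mem_H_of_nPerm_one hYm (eq_one_of_wm C hπW' h5 ▸ hπ')
    obtain ⟨u, hu⟩ := C.G.exists_tor h6
    exact ⟨u, hu.symm⟩

end CfsgLib.Lie.CoxE6
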